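import Cfsg.Agent.SporB.Ru.Out.Main

/-!
The invariant graph on 4060 points has no automorphisms outside the Rudvalis group.
-/

set_option autoImplicit false
set_option maxRecDepth 100000

namespace Cfsg.Agent.RuMult82.Lattice

open Cfsg.Agent.CosetEnum Cfsg.Agent.SporB.Ru Cfsg.Agent.SporB.Ru.Out

/-- Number of ones of a byte, in nibbles. -/
def tab : ℕ := 0x8776766576656554766565546554544376656554655454436554544354434332766565546554544365545443544343326554544354434332544343324332322176656554655454436554544354434332655454435443433254434332433232216554544354434332544343324332322154434332433232214332322132212110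

/-- Number of ones in the first `k` bytes. -/
noncomputable def pop8 : ℕ → ℕ → ℕ :=
  Nat.rec (motive := fun _ => ℕ → ℕ) (fun _ => 0)
    (fun _ ih x => forceNat x fun x => (tab >>> (4 * (x &&& 255)) &&& 15) + ih (x >>> 8))

/-- The block size, `2 ^ 64`. -/
def block : ℕ := 18446744073709551616

/-- Number of ones in the first `k` blocks of 64 bits. -/
noncomputable def pop : ℕ → ℕ → ℕ :=
  Nat.rec (motive := fun _ => ℕ → ℕ) (fun _ => 0)
    (fun _ ih x => forceNat x fun x =>
      forceNat (x % block) fun w => pop8 8 w + ih (x >>> 64))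

/-- Number of ones below position `n`. -/
def cnt (n x : ℕ) : ℕ := ∑ i ∈ Finset.range n, if x.testBit i then 1 else 0

theorem tab_ok : ∀ b : Fin 256, tab >>> (4 * b.val) &&& 15 = cnt 8 b.val := by decide +kernel

theorem pop8_eq : ∀ k x : ℕ, pop8 k x = cnt (8 * k) x
  | 0, _ => rfl
  | k + 1, x => by
    show forceNat x (fun x => (tab >>> (4 * (x &&& 255)) &&& 15) + pop8 k (x >>> 8)) = _
    rw [forceNat_eq, pop8_eq k (x >>> 8), show 8 * (k + 1) = 8 + 8 * k by ring]
    simp only [cnt]
    rw [Finset.sum_range_add]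
    have h255 : x &&& 255 < 256 := Nat.lt_succ_of_le Nat.and_le_right
    rw [tab_ok ⟨x &&& 255, h255⟩]
    congr 1
    · refine Finset.sum_congr rfl fun i hi => ?_
      rw [Finset.mem_range] at hi
      rw [Nat.testBit_and, show (255 : ℕ) = 2 ^ 8 - 1 from rfl, Nat.testBit_two_pow_sub_one,
        decide_eq_true hi, Bool.and_true]
    · exact Finset.sum_congr rfl fun i _ => by rw [Nat.testBit_shiftRight]

theorem pop_succ (k x : ℕ) : pop (k + 1) x =
    forceNat x (fun x => forceNat (x % block) fun w => pop8 8 w + pop k (x >>> 64)) := rfl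

theorem block_eq : block = 2 ^ 64 := rfl

theorem pop_eq : ∀ k x : ℕ, pop k x = cnt (64 * k) x
  | 0, _ => rfl
  | k + 1, x => by
    rw [pop_succ, forceNat_eq, forceNat_eq, pop8_eq, pop_eq k (x >>> 64), block_eq]
    simp only [cnt]
    rw [show 64 * (k + 1) = 8 * 8 + 64 * k by omega, Finset.sum_range_add]
    refine congrArg₂ (· + ·) ?_ ?_
    · refine Finset.sum_congr rfl fun i hi => ?_
      rw [Finset.mem_range] at hi
      rw [Nat.testBit_mod_two_pow, decide_eq_true (show i < 64 by omega), Bool.true_and]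
    · exact Finset.sum_congr rfl fun i _ => by
        rw [Nat.testBit_shiftRight, show 8 * 8 = 64 from rfl]

/-- The points whose adjacencies to `K` are those of `b`. -/
noncomputable abbrev cell (K : List ℕ) (b : ℕ) : ℕ := cmask K K b

theorem cell_bit {K : List ℕ} (b : ℕ) (j : ℕ) :
    (cell K b).testBit j = true ↔ j < 4060 ∧ ∀ k ∈ K, adj rows k j = adj rows k b := by
  induction K with
  | nil => simp [cell, cmask, full, Nat.testBit_two_pow_sub_one, -Nat.reducePow]
  | cons k K ih =>
    simp only [cell, cmask, List.zip_cons_cons, List.foldr_cons, Nat.testBit_and, Bool.and_eq_true,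
      List.forall_mem_cons]
    change (cell K b).testBit j = true ∧ _ ↔ _
    rw [ih]
    refine ⟨fun h => ⟨h.1.1, ?_, h.1.2⟩, fun h => ⟨⟨h.1, h.2.2⟩, ?_⟩⟩
    · have h2 := h.2
      cases hb : adj rows k b with
      | true => rw [hb] at h2; exact h2
      | false =>
        rw [hb] at h2
        simpa [Nat.testBit_xor, full_bit h.1.1, adj] using h2
    · cases hb : adj rows k b with
      | true => exact h.2.1.trans hb
      | false =>
        have h2 := h.2.1.trans hb
        simpa [Nat.testBit_xor, full_bit h.1, adj] using h2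

variable {f : Equiv.Perm Pt}

/-- `f` fixes the listed points. -/
def Fixes (f : Equiv.Perm Pt) (K : List ℕ) : Prop := ∀ i : Pt, (i : ℕ) ∈ K → f i = i

theorem cell_inv (hf : f ∈ autG rows) {K : List ℕ} (hK : ∀ k ∈ K, k < 4060) (hfix : Fixes f K)
    (b : ℕ) (i : Pt) : (cell K b).testBit (f i : Pt) = (cell K b).testBit i := by
  rw [Bool.eq_iff_iff, cell_bit, cell_bit]
  refine and_congr (iff_of_true (f i).2 i.2) (forall₂_congr fun k hk => ?_)
  have h := hf ⟨k, hK k hk⟩ i
  rw [hfix ⟨k, hK k hk⟩ hk] at h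
  exact Iff.of_eq (congrArg (· = adj rows k b) h)

theorem pop_card {x : ℕ} (hx : ∀ j, x.testBit j = true → j < 4060) :
    pop 64 x = (Finset.univ.filter fun i : Pt => x.testBit i = true).card := by
  rw [pop_eq, cnt, ← Finset.card_filter]
  refine (Finset.card_bij (fun (i : Pt) _ => (i : ℕ)) ?_ ?_ ?_).symm
  · intro i hi
    have := i.2
    simp only [Finset.mem_filter, Finset.mem_univ, true_and, Finset.mem_range] at hi ⊢
    exact ⟨by omega, hi⟩
  · intro i _ j _ h
    exact Fin.ext h
  · intro j hj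
    simp only [Finset.mem_filter, Finset.mem_range] at hj
    exact ⟨⟨j, hx j hj.2⟩, by simpa using hj.2, rfl⟩

theorem pop_inv (hf : f ∈ autG rows) {K : List ℕ} (hK : ∀ k ∈ K, k < 4060) (hfix : Fixes f K)
    (b : ℕ) (i : Pt) :
    pop 64 (look rows (f i : Pt) 0 &&& cell K b) = pop 64 (look rows i 0 &&& cell K b) := by
  have hlt : ∀ y j, (look rows y 0 &&& cell K b).testBit j = true → j < 4060 := fun y j h => by
    rw [Nat.testBit_and, Bool.and_eq_true, cell_bit] at h
    exact h.2.1
  rw [pop_card (hlt _), pop_card (hlt _)]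
  refine (Finset.card_equiv f fun z => ?_).symm
  simp only [Finset.mem_filter, Finset.mem_univ, true_and, Nat.testBit_and]
  rw [cell_inv hf hK hfix]
  show _ ↔ (adj rows (f i : Pt) (f z : Pt) && _) = true
  rw [hf i z]
  rfl

/-- Every candidate for the image of `x` lies in `O`. -/
noncomputable def candOK (K : List ℕ) (x : ℕ) (reps : List ℕ) (O : ℕ) : Bool :=
  forceNat (cmask K K x) fun m => forceNat O fun O => allRange (fun y =>
    !(m.testBit y) || O.testBit y || K.any (Nat.beq y) || reps.any fun b =>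
      !(Nat.beq (pop 64 (look rows y 0 &&& cell K b)) (pop 64 (look rows x 0 &&& cell K b)))) 0 4060

theorem cand_mem (hf : f ∈ autG rows) {K : List ℕ} (hK : ∀ k ∈ K, k < 4060) (hfix : Fixes f K)
    (x : Pt) (hx : (x : ℕ) ∉ K) {reps : List ℕ} {O : ℕ} (h : candOK K x reps O = true) :
    O.testBit (f x : Pt) = true := by
  rw [candOK, forceNat_eq, forceNat_eq] at h
  have hy := allRange_spec h (f x : Pt) (Nat.zero_le _) (by omega)
  simp only [Bool.or_eq_true, Bool.not_eq_true'] at hy
  rcases hy with ((hy | hy) | hy) | hy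
  · have hm : (cell K x).testBit (f x : Pt) = true := by
      rw [cell_inv hf hK hfix, cell_bit]
      exact ⟨x.2, fun _ _ => rfl⟩
    rw [show cmask K K x = cell K x from rfl, hm] at hy
    exact absurd hy (by decide)
  · exact hy
  · exfalso
    obtain ⟨k, hk, he⟩ := List.any_eq_true.mp hy
    have hxk : (f x : Pt) = ⟨k, hK k hk⟩ := Fin.ext (Nat.eq_of_beq_eq_true he)
    rw [← hfix ⟨k, hK k hk⟩ hk] at hxk
    exact hx (by rw [f.injective hxk]; exact hk)
  · exfalso
    obtain ⟨b, -, hb⟩ := List.any_eq_true.mp hy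
    rw [Bool.not_eq_true', pop_inv hf hK hfix] at hb
    rw [show Nat.beq _ _ = true from Nat.beq_refl _] at hb
    exact Bool.noConfusion hb

theorem fix_step (hf : f ∈ autG rows) {K : List ℕ} (hfix : (∀ k ∈ K, k < 4060) ∧ Fixes f K)
    {x : ℕ} {reps : List ℕ}
    (h : (Nat.blt x 4060 && !(K.any (Nat.beq x)) && candOK K x reps (1 <<< x)) = true) :
    (∀ k ∈ x :: K, k < 4060) ∧ Fixes f (x :: K) := by
  simp only [Bool.and_eq_true, Bool.not_eq_true'] at h
  obtain ⟨⟨hp, hn⟩, hc⟩ := h
  have hp' : x < 4060 := Nat.le_of_ble_eq_true hp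
  have hx : x ∉ K := fun hm => by
    rw [List.any_eq_true.mpr ⟨x, hm, Nat.beq_refl _⟩] at hn
    exact Bool.noConfusion hn
  have h1 := cand_mem hf hfix.1 hfix.2 ⟨x, hp'⟩ hx hc
  rw [Nat.one_shiftLeft, Nat.testBit_two_pow] at h1
  refine ⟨List.forall_mem_cons.mpr ⟨hp', hfix.1⟩, fun i hi => ?_⟩
  rcases List.mem_cons.mp hi with e | hm
  · rw [show i = ⟨x, hp'⟩ from Fin.ext e]
    exact Fin.ext (of_decide_eq_true h1).symm
  · exact hfix.2 i hm

theorem eq_one_of_base (hf : f ∈ autG rows) {K : List ℕ}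
    (h : base.all (fun b => K.any (Nat.beq b)) = true) (hfix : (∀ k ∈ K, k < 4060) ∧ Fixes f K) :
    f = 1 := by
  refine faithful_autG base_ok sig_ok f hf fun b hb i hi => hfix.2 i ?_
  obtain ⟨k, hk, he⟩ := List.any_eq_true.mp (List.all_eq_true.mp h b hb)
  rw [hi, Nat.eq_of_beq_eq_true he]
  exact hk

/-! ### The chain -/

/-- The points of a level below an index, as a mask. -/
noncomputable def orbMaskTo (L : SporB.Ru.Level) (n : ℕ) : ℕ :=
  Nat.rec (motive := fun _ => ℕ) 0 (fun k ih => forceNat ih fun m => m ||| 1 <<< L.pt k) n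

/-- The points of a level, as a mask. -/
noncomputable def orbMask (L : SporB.Ru.Level) : ℕ := orbMaskTo L L.n

theorem orbMask_bit (L : SporB.Ru.Level) {j : ℕ} (h : (orbMask L).testBit j = true) :
    ∃ k, k < L.n ∧ L.pt k = j := by
  suffices key : ∀ n, (orbMaskTo L n).testBit j = true → ∃ k, k < n ∧ L.pt k = j from key _ h
  intro n
  induction n with
  | zero => intro h; simp [orbMaskTo] at h
  | succ n ih =>
    intro h
    change (forceNat (orbMaskTo L n) fun m => m ||| 1 <<< L.pt n).testBit j = true at h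
    rw [forceNat_eq, Nat.testBit_or, Bool.or_eq_true, Nat.one_shiftLeft, Nat.testBit_two_pow,
      decide_eq_true_eq] at h
    rcases h with h | h
    · obtain ⟨k, hk, e⟩ := ih h
      exact ⟨k, by omega, e⟩
    · exact ⟨n, by omega, h⟩

/-- The images of a point under some words. -/
noncomputable def wordsMask (Ws : List (List ℕ)) (x : ℕ) : ℕ :=
  List.rec (motive := fun _ => ℕ) 0 (fun W _ ih => ih ||| 1 <<< go W x) Ws

theorem wordsMask_bit {Ws : List (List ℕ)} {x j : ℕ} (h : (wordsMask Ws x).testBit j = true) :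
    ∃ W ∈ Ws, go W x = j := by
  induction Ws with
  | nil => simp [wordsMask] at h
  | cons W Ws ih =>
    change (wordsMask Ws x ||| 1 <<< go W x).testBit j = true at h
    rw [Nat.testBit_or, Bool.or_eq_true, Nat.one_shiftLeft, Nat.testBit_two_pow,
      decide_eq_true_eq] at h
    rcases h with h | h
    · obtain ⟨V, hV, e⟩ := ih h
      exact ⟨V, List.mem_cons_of_mem _ hV, e⟩
    · exact ⟨W, List.mem_cons_self, h⟩

/-- Words in the last subgroup fixing some points. -/
noncomputable def wordsOK (Ws : List (List ℕ)) (K : List ℕ) : Bool :=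
  Ws.all fun W => inS [12, 14] W && K.all fun k => Nat.beq (go W k) k

theorem word_step (hf : f ∈ autG rows) {K : List ℕ} (hK : ∀ k ∈ K, k < 4060) (hfix : Fixes f K)
    (x : Pt) (hx : (x : ℕ) ∉ K) {reps : List ℕ} {Ws : List (List ℕ)}
    (hW : wordsOK Ws K = true) (h : candOK K x reps (wordsMask Ws x) = true) :
    ∃ g ∈ sg [12, 14], g⁻¹ * f ∈ autG rows ∧ Fixes (g⁻¹ * f) ((x : ℕ) :: K) := by
  obtain ⟨W, hWm, he⟩ := wordsMask_bit (cand_mem hf hK hfix x hx h)
  have hW' := List.all_eq_true.mp hW W hWm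
  rw [Bool.and_eq_true, List.all_eq_true] at hW'
  have hlt := inS_lt hW'.1
  have hmem : evalWord (val lettersOK) W ∈ sg [12, 14] := eval_mem lettersOK hW'.1
  refine ⟨(evalWord (val lettersOK) W)⁻¹, inv_mem hmem,
    mul_mem (inv_mem (inv_mem (G_le (g00 (g10 (g21 hmem)))))) hf, fun i hi => ?_⟩
  rw [inv_inv, Equiv.Perm.mul_apply]
  rcases List.mem_cons.mp hi with e | hk
  · have ei : i = x := Fin.ext e
    subst ei
    rw [← Equiv.eq_symm_apply]
    exact (Fin.ext ((go_eval lettersOK W hlt i).trans he)).symm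
  · rw [hfix i hk, ← Equiv.eq_symm_apply]
    exact (Fin.ext ((go_eval lettersOK W hlt i).trans
      (Nat.eq_of_beq_eq_true (hW'.2 i hk)))).symm

theorem level_step (L : SporB.Ru.Level) {x : Pt} (hb : (x : ℕ) = L.b)
    (hreach : ∀ k, k < L.n → ∃ g ∈ sg L.S, ((g x : Pt) : ℕ) = L.pt k) {K : List ℕ}
    (hsub : sg L.S ≤ autG rows) (hSfix : ∀ g ∈ sg L.S, Fixes g K)
    (hf : f ∈ autG rows) (hK : ∀ k ∈ K, k < 4060) (hfix : Fixes f K) (hx : (x : ℕ) ∉ K)
    {reps : List ℕ} (h : candOK K x reps (orbMask L) = true) :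
    ∃ g ∈ sg L.S, g⁻¹ * f ∈ autG rows ∧ Fixes (g⁻¹ * f) ((x : ℕ) :: K) := by
  obtain ⟨k, hk, he⟩ := orbMask_bit L (cand_mem hf hK hfix x hx h)
  obtain ⟨g, hg, hgx⟩ := hreach k hk
  refine ⟨g, hg, mul_mem (inv_mem (hsub hg)) hf, fun i hi => ?_⟩
  rw [Equiv.Perm.mul_apply]
  rcases List.mem_cons.mp hi with e | hm
  · have ei : i = x := Fin.ext e
    subst ei
    exact Equiv.Perm.inv_eq_iff_eq.mpr (Fin.ext (hgx.trans he)).symm
  · rw [hfix i hm]
    exact Equiv.Perm.inv_eq_iff_eq.mpr (hSfix g hg i hm).symm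

end Cfsg.Agent.RuMult82.Lattice
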