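import Cfsg.Agent.RuMult82.Lattice.Aut

/-!
The automorphism group of the graph is the permutation group on 4060 points.
-/

set_option autoImplicit false
set_option maxRecDepth 100000

namespace Cfsg.Agent.RuMult82.Lattice

open Cfsg.Agent.CosetEnum Cfsg.Agent.SporB.Ru Cfsg.Agent.SporB.Ru.Out

/-- Words for the orbit of the fourth point. -/
def words3 : List (List ℕ) := [[], [14], [12, 14], [12]]

/-- Words for the orbit of the fifth point. -/
def words4 : List (List ℕ) := [[], [12, 12, 12, 14, 12, 14], [12, 12, 12, 14, 12, 14, 14, 14], [14, 14], [12, 14, 12, 14, 14, 14], [12, 14, 12, 14], [12, 12, 14, 14], [12, 12]]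

theorem cand1 : candOK [0] 1126 [] (orbMask g1) = true := by decide +kernel

theorem cand2 : candOK [1126, 0] 2052 [1] (orbMask g2) = true := by decide +kernel

theorem cand3 : candOK [2052, 1126, 0] 206 [23] (wordsMask words3 206) = true := by decide +kernel

theorem cand4 : candOK [206, 2052, 1126, 0] 2 [5, 1] (wordsMask words4 2) = true := by decide +kernel

theorem words3_ok : wordsOK words3 [2052, 1126, 0] = true := by decide +kernel

theorem words4_ok : wordsOK words4 [206, 2052, 1126, 0] = true := by decide +kernel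

theorem pin0 : (Nat.blt 200 4060 && !(([2, 206, 2052, 1126, 0] : List ℕ).any (Nat.beq 200)) && candOK [2, 206, 2052, 1126, 0] 200 [0] (1 <<< 200)) = true := by decide +kernel

theorem pin1 : (Nat.blt 2790 4060 && !(([200, 2, 206, 2052, 1126, 0] : List ℕ).any (Nat.beq 2790)) && candOK [200, 2, 206, 2052, 1126, 0] 2790 [229] (1 <<< 2790)) = true := by decide +kernel

theorem pin2 : (Nat.blt 6 4060 && !(([2790, 200, 2, 206, 2052, 1126, 0] : List ℕ).any (Nat.beq 6)) && candOK [2790, 200, 2, 206, 2052, 1126, 0] 6 [781] (1 <<< 6)) = true := by decide +kernel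

theorem pin3 : (Nat.blt 2300 4060 && !(([6, 2790, 200, 2, 206, 2052, 1126, 0] : List ℕ).any (Nat.beq 2300)) && candOK [6, 2790, 200, 2, 206, 2052, 1126, 0] 2300 [0] (1 <<< 2300)) = true := by decide +kernel

theorem pin4 : (Nat.blt 1388 4060 && !(([2300, 6, 2790, 200, 2, 206, 2052, 1126, 0] : List ℕ).any (Nat.beq 1388)) && candOK [2300, 6, 2790, 200, 2, 206, 2052, 1126, 0] 1388 [3061] (1 <<< 1388)) = true := by decide +kernel

theorem pin5 : (Nat.blt 3779 4060 && !(([1388, 2300, 6, 2790, 200, 2, 206, 2052, 1126, 0] : List ℕ).any (Nat.beq 3779)) && candOK [1388, 2300, 6, 2790, 200, 2, 206, 2052, 1126, 0] 3779 [4004] (1 <<< 3779)) = true := by decide +kernel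

theorem pin6 : (Nat.blt 2339 4060 && !(([3779, 1388, 2300, 6, 2790, 200, 2, 206, 2052, 1126, 0] : List ℕ).any (Nat.beq 2339)) && candOK [3779, 1388, 2300, 6, 2790, 200, 2, 206, 2052, 1126, 0] 2339 [4056] (1 <<< 2339)) = true := by decide +kernel

theorem pin7 : (Nat.blt 2291 4060 && !(([2339, 3779, 1388, 2300, 6, 2790, 200, 2, 206, 2052, 1126, 0] : List ℕ).any (Nat.beq 2291)) && candOK [2339, 3779, 1388, 2300, 6, 2790, 200, 2, 206, 2052, 1126, 0] 2291 [4056] (1 <<< 2291)) = true := by decide +kernel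

theorem pin8 : (Nat.blt 1095 4060 && !(([2291, 2339, 3779, 1388, 2300, 6, 2790, 200, 2, 206, 2052, 1126, 0] : List ℕ).any (Nat.beq 1095)) && candOK [2291, 2339, 3779, 1388, 2300, 6, 2790, 200, 2, 206, 2052, 1126, 0] 1095 [] (1 <<< 1095)) = true := by decide +kernel

theorem pin9 : (Nat.blt 2033 4060 && !(([1095, 2291, 2339, 3779, 1388, 2300, 6, 2790, 200, 2, 206, 2052, 1126, 0] : List ℕ).any (Nat.beq 2033)) && candOK [1095, 2291, 2339, 3779, 1388, 2300, 6, 2790, 200, 2, 206, 2052, 1126, 0] 2033 [] (1 <<< 2033)) = true := by decide +kernel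

theorem pin10 : (Nat.blt 946 4060 && !(([2033, 1095, 2291, 2339, 3779, 1388, 2300, 6, 2790, 200, 2, 206, 2052, 1126, 0] : List ℕ).any (Nat.beq 946)) && candOK [2033, 1095, 2291, 2339, 3779, 1388, 2300, 6, 2790, 200, 2, 206, 2052, 1126, 0] 946 [] (1 <<< 946)) = true := by decide +kernel

theorem pin11 : (Nat.blt 2448 4060 && !(([946, 2033, 1095, 2291, 2339, 3779, 1388, 2300, 6, 2790, 200, 2, 206, 2052, 1126, 0] : List ℕ).any (Nat.beq 2448)) && candOK [946, 2033, 1095, 2291, 2339, 3779, 1388, 2300, 6, 2790, 200, 2, 206, 2052, 1126, 0] 2448 [] (1 <<< 2448)) = true := by decide +kernel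

theorem pin12 : (Nat.blt 1278 4060 && !(([2448, 946, 2033, 1095, 2291, 2339, 3779, 1388, 2300, 6, 2790, 200, 2, 206, 2052, 1126, 0] : List ℕ).any (Nat.beq 1278)) && candOK [2448, 946, 2033, 1095, 2291, 2339, 3779, 1388, 2300, 6, 2790, 200, 2, 206, 2052, 1126, 0] 1278 [] (1 <<< 1278)) = true := by decide +kernel

theorem pin13 : (Nat.blt 3663 4060 && !(([1278, 2448, 946, 2033, 1095, 2291, 2339, 3779, 1388, 2300, 6, 2790, 200, 2, 206, 2052, 1126, 0] : List ℕ).any (Nat.beq 3663)) && candOK [1278, 2448, 946, 2033, 1095, 2291, 2339, 3779, 1388, 2300, 6, 2790, 200, 2, 206, 2052, 1126, 0] 3663 [] (1 <<< 3663)) = true := by decide +kernel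

theorem pin14 : (Nat.blt 553 4060 && !(([3663, 1278, 2448, 946, 2033, 1095, 2291, 2339, 3779, 1388, 2300, 6, 2790, 200, 2, 206, 2052, 1126, 0] : List ℕ).any (Nat.beq 553)) && candOK [3663, 1278, 2448, 946, 2033, 1095, 2291, 2339, 3779, 1388, 2300, 6, 2790, 200, 2, 206, 2052, 1126, 0] 553 [] (1 <<< 553)) = true := by decide +kernel

theorem pin15 : (Nat.blt 368 4060 && !(([553, 3663, 1278, 2448, 946, 2033, 1095, 2291, 2339, 3779, 1388, 2300, 6, 2790, 200, 2, 206, 2052, 1126, 0] : List ℕ).any (Nat.beq 368)) && candOK [553, 3663, 1278, 2448, 946, 2033, 1095, 2291, 2339, 3779, 1388, 2300, 6, 2790, 200, 2, 206, 2052, 1126, 0] 368 [] (1 <<< 368)) = true := by decide +kernel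

theorem base_in : base.all (fun b => ([368, 553, 3663, 1278, 2448, 946, 2033, 1095, 2291, 2339, 3779, 1388, 2300, 6, 2790, 200, 2, 206, 2052, 1126, 0] : List ℕ).any (Nat.beq b)) = true := by decide +kernel

theorem autG_le : autG rows ≤ sg [0, 2] := by
  intro f hf
  obtain ⟨g0', hg0, hg00⟩ := g0_step.2.2 (f 0)
  have hf1 : g0'⁻¹ * f ∈ autG rows := mul_mem (inv_mem (G_le hg0)) hf
  have hfix1 : Fixes (g0'⁻¹ * f) [0] := fun i hi => by
    rw [show i = 0 from Fin.ext (List.mem_singleton.mp hi), Equiv.Perm.mul_apply,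
      Equiv.Perm.inv_eq_iff_eq, hg00]
  have s1 : ∀ g ∈ sg [4, 6], Fixes g [0] := fun g hg i hi => by
    rw [show i = 0 from Fin.ext (List.mem_singleton.mp hi)]
    have h := hg
    rw [← g0_step.2.1] at h
    exact h.2
  obtain ⟨b1, hb1, -, hst1, hr1, -⟩ := g1.step lettersOK faithful_H g00
    (show sg [8, 10, 12, 14] ≤ sg [4, 6] by rw [deep_g1]; exact g10) g1_head g1_orb g1_tr
  obtain ⟨b2, hb2, -, hst2, hr2, -⟩ := g2.step lettersOK faithful_H (g10.trans g00)
    (show sg [12, 14] ≤ sg [8, 10] from g21) g2_head g2_orb g2_tr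
  change (b1 : ℕ) = 1126 at hb1
  change (b2 : ℕ) = 2052 at hb2
  change sg [4, 6] ⊓ _ = sg [8, 10, 12, 14] at hst1
  rw [deep_g1] at hst1
  change sg [8, 10] ⊓ _ = sg [12, 14] at hst2
  have s2 : ∀ g ∈ sg [8, 10], Fixes g [1126, 0] := fun g hg i hi => by
    rcases List.mem_cons.mp hi with e | e
    · rw [show i = b1 from Fin.ext (e.trans hb1.symm)]
      have h := hg
      rw [← hst1] at h
      exact h.2
    · exact s1 g (g10 hg) i e
  obtain ⟨h1, hh1, hf2, hfix2⟩ := level_step (K := [0]) (reps := []) g1 (x := b1) hb1 hr1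
    (g00.trans G_le) s1 hf1 (by simp) hfix1 (by rw [hb1]; decide) (by rw [hb1]; exact cand1)
  rw [hb1] at hfix2
  obtain ⟨h2, hh2, hf3, hfix3⟩ := level_step (K := [1126, 0]) (reps := [1]) g2 (x := b2) hb2 hr2
    ((g10.trans g00).trans G_le) s2 hf2 (by simp) hfix2 (by rw [hb2]; decide) (by rw [hb2]; exact cand2)
  rw [hb2] at hfix3
  obtain ⟨h3, hh3, hf4, hfix4⟩ := word_step hf3 (by simp) hfix3 ⟨206, by norm_num⟩ (by decide) words3_ok cand3
  obtain ⟨h4, hh4, hf5, hfix5⟩ := word_step hf4 (by simp) hfix4 ⟨2, by norm_num⟩ (by decide) words4_ok cand4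
  have p0 := fix_step hf5 ⟨by simp, hfix5⟩ pin0
  have p1 := fix_step hf5 p0 pin1
  have p2 := fix_step hf5 p1 pin2
  have p3 := fix_step hf5 p2 pin3
  have p4 := fix_step hf5 p3 pin4
  have p5 := fix_step hf5 p4 pin5
  have p6 := fix_step hf5 p5 pin6
  have p7 := fix_step hf5 p6 pin7
  have p8 := fix_step hf5 p7 pin8
  have p9 := fix_step hf5 p8 pin9
  have p10 := fix_step hf5 p9 pin10
  have p11 := fix_step hf5 p10 pin11
  have p12 := fix_step hf5 p11 pin12
  have p13 := fix_step hf5 p12 pin13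
  have p14 := fix_step hf5 p13 pin14
  have p15 := fix_step hf5 p14 pin15
  have key := eq_one_of_base hf5 base_in p15
  have e : f = g0' * h1 * h2 * h3 * h4 := by
    have h' : (g0' * h1 * h2 * h3 * h4)⁻¹ * f = 1 := by rw [← key]; group
    rw [inv_mul_eq_one] at h'
    exact h'.symm
  rw [e]
  exact mul_mem (mul_mem (mul_mem (mul_mem hg0 (g00 hh1)) (g00 (g10 hh2))) (g00 (g10 (g21 hh3))))
    (g00 (g10 (g21 hh4)))

theorem autG_eq : autG rows = sg [0, 2] := le_antisymm autG_le G_le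

end Cfsg.Agent.RuMult82.Lattice
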