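import Cfsg.Agent.RuMult82.Lattice.MinKit

/-!
At most 16240 vectors of norm 16, given the checks.
-/

set_option autoImplicit false
set_option maxRecDepth 100000

namespace Cfsg.Agent.RuMult82.Lattice

open Cfsg.Agent.CosetEnum
open Cfsg.Agent.SporB.Ru (look)
open Cfsg.Agent.RuLattice (Vec ent row lat mask mask_testBit dot span ones pairCode pairCode_span_W
  pairCode_testBit pair_W row_mem dvd_dot basisU basisW mask_mem ones_mask card_odd_le)

/-- The word of an index pair. -/
noncomputable def word (n i : ℕ) : ℕ := spanAt basisU n ^^^ spanAt basisW i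

/-- The parity functional of a code refutes a pair through `a`. -/
noncomputable def killMask (S a c : ℕ) : ℕ :=
  bif xor (Nat.beq (sumS S (ids c) % 4) 2) ((rbit (ids c)).testBit a) then 2 ^ 56 - 1 ^^^ rbit (ids c)
  else rbit (ids c)

/-- All the partners refuted. -/
noncomputable def killed (S a : ℕ) (cs : List ℕ) : ℕ :=
  List.rec (motive := fun _ => ℕ) 0 (fun c _ ih => killMask S a c ||| ih) cs

/-- The pairs of columns are told apart. -/
noncomputable def pairOK (q : ℕ) : Bool :=
  forceNat (look pairSrt q 0) fun c => forceNat (c / 56) fun a => forceNat (c % 56) fun b =>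
    Nat.blt a b && Nat.blt b 56 && Nat.beq (look pairRk c 0) q && (Nat.beq q 0 ||
      forceNat (look pairSrt (q - 1) 0) fun c' =>
        Nat.blt (colB.getD (c' / 56) 0 ^^^ colB.getD (c' % 56) 0)
          (colB.getD a 0 ^^^ colB.getD b 0))

/-- A word of weight 16 with free bits and pivots. -/
noncomputable def goodEntry (n : ℕ) (e : List ℕ) : Bool :=
  forceNat (word n (e.getD 0 0)) fun S => Nat.beq (pop8 7 S) 16 && goodOK S (e.getD 1 0) (e.drop 2)

/-- A word of weight 16 without lattice vectors. -/
noncomputable def badEntry (n : ℕ) (e : List ℕ) : Bool :=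
  forceNat (word n (e.getD 0 0)) fun S => forceNat (e.getD 1 0) fun c => Nat.beq (pop8 7 S) 16 &&
    idsOK (ids c) && Nat.beq (S &&& rbit (ids c)) 0 && !(Nat.beq (sumS S (ids c) % 4) 0)

/-- An octad without lattice vectors. -/
noncomputable def eightEntry (n : ℕ) (e : List ℕ) : Bool :=
  forceNat (word n (e.getD 0 0)) fun S => Nat.beq (pop8 7 S) 8 &&
    ((e.drop 1).all fun c => idsOK (ids c) && Nat.beq (S &&& rbit (ids c)) 0) &&
    ((e.drop 1).any fun c => !(Nat.beq (sumS S (ids c) % 4) 0)) &&
    (List.range 56).all fun a => S.testBit a ||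
      forceNat (2 ^ 56 - 1 ^^^ (S ||| 1 <<< a)) fun rest =>
        Nat.beq (killed S a (e.drop 1) &&& rest) rest

/-- The indices of the entries, as a mask. -/
noncomputable def idxMask (es : List (List ℕ)) : ℕ :=
  List.rec (motive := fun _ => ℕ) 0 (fun e _ ih => 1 <<< e.getD 0 0 ||| ih) es

/-- The good entries of an index. -/
def goods (n : ℕ) : List (List ℕ) := (goodE.getD (n / 32) []).getD (n % 32) []

/-- The bad entries of an index. -/
def bads (n : ℕ) : List (List ℕ) := (badE.getD (n / 32) []).getD (n % 32) []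

/-- The octad entries of an index. -/
def eights (n : ℕ) : List (List ℕ) := (eightE.getD (n / 32) []).getD (n % 32) []

/-- All the light words of an index are listed, and each one is as stated. -/
noncomputable def indexOK (n : ℕ) : Bool :=
  Nat.beq (light (spanAt basisU n))
      ((idxMask (goods n) ||| (idxMask (bads n) ||| idxMask (eights n))) ||| bif Nat.beq n 0 then 1 else 0) &&
    (goods n).all (goodEntry n) && (bads n).all (badEntry n) && (eights n).all (eightEntry n)

/-- The number of sign vectors of the good entries. -/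
noncomputable def totalTo : ℕ → ℕ :=
  Nat.rec (motive := fun _ => ℕ) 0 (fun n ih => forceNat ih fun t =>
    ((goods n).map fun e => 2 ^ pop8 7 (e.getD 1 0)).sum + t)

/-- All the checks. -/
structure Checks : Prop where
  plane : ∀ i, i < 1024 → planeOK i = true
  index : ∀ n, n < 512 → indexOK n = true
  pair : ∀ q, q < 1540 → pairOK q = true
  cols : ∀ k : Fin 56, ∀ j : Fin 40, (colB.getD k.val 0).testBit j.val = (rowB.getD j.val 0).testBit k.val
  rank : ∀ a b : Fin 56, a < b → look pairRk (a.val * 56 + b.val) 0 < 1540 ∧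
    look pairSrt (look pairRk (a.val * 56 + b.val) 0) 0 = a.val * 56 + b.val
  colsLt : ∀ k : Fin 56, colB.getD k.val 0 < 2 ^ 40
  total : totalTo 512 = 16128

theorem idxMask_bit : ∀ {es : List (List ℕ)} {i : ℕ}, (idxMask es).testBit i = true →
    ∃ e ∈ es, e.getD 0 0 = i
  | [], i, h => by simp [idxMask] at h
  | e :: es, i, h => by
    change (1 <<< e.getD 0 0 ||| idxMask es).testBit i = true at h
    rw [Nat.testBit_or, Bool.or_eq_true, Nat.one_shiftLeft, Nat.testBit_two_pow,
      decide_eq_true_eq] at h
    rcases h with h | h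
    · exact ⟨e, List.mem_cons_self, h⟩
    · obtain ⟨e', he, h'⟩ := idxMask_bit h
      exact ⟨e', List.mem_cons_of_mem _ he, h'⟩

theorem killed_bit : ∀ {cs : List ℕ} {S a b : ℕ}, (killed S a cs).testBit b = true →
    ∃ c ∈ cs, (killMask S a c).testBit b = true
  | [], S, a, b, h => by simp [killed] at h
  | c :: cs, S, a, b, h => by
    change (killMask S a c ||| killed S a cs).testBit b = true at h
    rw [Nat.testBit_or, Bool.or_eq_true] at h
    rcases h with h | h
    · exact ⟨c, List.mem_cons_self, h⟩
    · obtain ⟨c', hc, h'⟩ := killed_bit h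
      exact ⟨c', List.mem_cons_of_mem _ hc, h'⟩

theorem pop_filter (S : ℕ) :
    pop8 7 S = (Finset.univ.filter fun k : Fin 56 => S.testBit k.val = true).card := by
  have h := cnt_sum S
  rw [← pop8_eq 7] at h
  rw [Finset.card_filter]
  refine Nat.cast_injective (R := ℤ) ?_
  rw [h, Nat.cast_sum]
  exact Finset.sum_congr rfl fun k _ => by split <;> simp

/-- The set of odd coordinates. -/
def oddSet (x : Vec) : Finset (Fin 56) := Finset.univ.filter fun k => x k % 2 = 1

theorem oddSet_eq {x : Vec} {S : ℕ} (h : mask x = S) :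
    oddSet x = Finset.univ.filter fun k : Fin 56 => S.testBit k.val = true := by
  ext k
  simp [oddSet, ← h, mask_testBit]

theorem signs_of_sixteen {x : Vec} (h16 : dot x x = 16) {S : ℕ} (hS : mask x = S)
    (hw : pop8 7 S = 16) : Signs S x := by
  have hc : (oddSet x).card = 16 := by rw [oddSet_eq hS, ← pop_filter, hw]
  have hone : ∀ k ∈ oddSet x, 1 ≤ x k * x k := fun k hk => by
    have h := (Finset.mem_filter.mp hk).2
    have h0 : x k ≠ 0 := fun e => by rw [e] at h; norm_num at h
    have := mul_self_pos.2 h0
    omega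
  have hsplit : (∑ k ∈ (oddSet x)ᶜ, x k * x k) + ∑ k ∈ oddSet x, x k * x k = 16 := by
    rw [Finset.sum_compl_add_sum, ← h16]; rfl
  have hge := Finset.card_nsmul_le_sum (oddSet x) (fun k => x k * x k) 1 hone
  rw [hc] at hge
  have hge' : (16 : ℤ) ≤ ∑ k ∈ oddSet x, x k * x k := by simpa using hge
  have hnn : (0 : ℤ) ≤ ∑ k ∈ (oddSet x)ᶜ, x k * x k := Finset.sum_nonneg fun k _ => mul_self_nonneg _
  intro k
  have hmem : k ∈ oddSet x ↔ S.testBit k.val = true := by rw [oddSet_eq hS]; simp
  by_cases hb : S.testBit k.val = true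
  · rw [if_pos hb]
    have hk := hmem.mpr hb
    have h := Finset.sum_erase_add (oddSet x) (fun k => x k * x k) hk
    have h' := Finset.card_nsmul_le_sum ((oddSet x).erase k) (fun k => x k * x k) 1
      fun l hl => hone l (Finset.mem_of_mem_erase hl)
    rw [Finset.card_erase_of_mem hk, hc] at h'
    simp only [nsmul_one] at h'
    push_cast at h'
    exact mul_self_eq_one_iff.1 (by have := hone k hk; omega)
  · rw [if_neg hb]
    have h := Finset.single_le_sum (f := fun k => x k * x k) (fun l _ => mul_self_nonneg (x l))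
      (Finset.mem_compl.2 fun hk => hb (hmem.mp hk))
    exact mul_self_eq_zero.1 (le_antisymm (by omega) (mul_self_nonneg _))

/-- Coordinates twice an odd number. -/
def twoSet (x : Vec) : Finset (Fin 56) := Finset.univ.filter fun k => x k % 4 = 2

theorem two_congr {x : Vec} {S : ℕ} (hS : mask x = S) {r : Vec}
    (hr : ∀ k : Fin 56, S.testBit k.val = true → r k % 2 = 0) :
    (4 : ℤ) ∣ dot x r - (∑ k : Fin 56, if S.testBit k.val then r k else 0) -
      ∑ k ∈ twoSet x, 2 * r k := by
  rw [twoSet, Finset.sum_filter, dot, ← Finset.sum_sub_distrib, ← Finset.sum_sub_distrib]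
  refine Finset.dvd_sum fun k _ => ?_
  have hm := mask_testBit x k
  rw [hS] at hm
  by_cases hb : S.testBit k.val = true
  · rw [hb] at hm
    have hodd := of_decide_eq_true hm.symm
    obtain ⟨a, ha⟩ := Int.dvd_of_emod_eq_zero (hr k hb)
    obtain ⟨c, hc⟩ : ∃ c, x k = 2 * c + 1 := ⟨x k / 2, by omega⟩
    rw [if_pos hb, if_neg (by omega), ha, hc]
    exact ⟨c * a, by ring⟩
  · rw [Bool.not_eq_true] at hb
    rw [hb] at hm
    have hev := of_decide_eq_false hm.symm
    by_cases h2 : x k % 4 = 2
    · obtain ⟨c, hc⟩ : ∃ c, x k = 4 * c + 2 := ⟨x k / 4, by omega⟩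
      rw [if_neg (by simp [hb]), if_pos h2, hc]
      exact ⟨c * r k, by ring⟩
    · obtain ⟨c, hc⟩ : ∃ c, x k = 4 * c := ⟨x k / 4, by omega⟩
      rw [if_neg (by simp [hb]), if_neg h2, hc]
      exact ⟨c * r k, by ring⟩

theorem four_le_two {x : Vec} {k : Fin 56} (hk : k ∈ twoSet x) : 4 ≤ x k * x k := by
  have h := (Finset.mem_filter.mp hk).2
  obtain ⟨c, hc⟩ : ∃ c, x k = 4 * c + 2 := ⟨x k / 4, by omega⟩
  rw [hc]
  nlinarith [mul_self_nonneg (2 * c + 1 : ℤ), show (1 : ℤ) ≤ (2 * c + 1) * (2 * c + 1) by
    rcases le_or_gt 0 c with h | h <;> nlinarith]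

theorem no_octad {x : Vec} (hx : x ∈ lat) (h16 : dot x x = 16) {S n : ℕ} {e : List ℕ}
    (hS : mask x = S) (hword : word n (e.getD 0 0) = S) (h : eightEntry n e = true) : False := by
  simp only [eightEntry, forceNat_eq, hword, Bool.and_eq_true, List.all_eq_true] at h
  obtain ⟨⟨⟨hw, hcs⟩, hne⟩, hpairs⟩ := h
  have hw' := Nat.eq_of_beq_eq_true hw
  have hc : (oddSet x).card = 8 := by rw [oddSet_eq hS, ← pop_filter, hw']
  have hdisj : Disjoint (oddSet x) (twoSet x) := by
    rw [Finset.disjoint_left]
    intro k h1 h2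
    have := (Finset.mem_filter.mp h1).2
    have := (Finset.mem_filter.mp h2).2
    omega
  have hsum : ∑ k ∈ oddSet x ∪ twoSet x, x k * x k ≤ 16 := by
    rw [← h16, dot]
    exact Finset.sum_le_univ_sum_of_nonneg fun k => mul_self_nonneg _
  rw [Finset.sum_union hdisj] at hsum
  have h1 := Finset.card_nsmul_le_sum (oddSet x) (fun k => x k * x k) 1 fun k hk => by
    have h := (Finset.mem_filter.mp hk).2
    have h0 : x k ≠ 0 := fun e => by rw [e] at h; norm_num at h
    have := mul_self_pos.2 h0
    omega
  have h2 := Finset.card_nsmul_le_sum (twoSet x) (fun k => x k * x k) 4 fun k hk => four_le_two hk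
  rw [hc] at h1
  simp only [nsmul_one, nsmul_eq_mul] at h1 h2
  push_cast at h1
  have htwo : (twoSet x).card ≤ 2 := by
    have : ((twoSet x).card : ℤ) ≤ 2 := by omega
    exact_mod_cast this
  have hkey : ∀ c ∈ e.drop 1, (4 : ℤ) ∣
      (sumS S (ids c) : ℤ) + ∑ k ∈ twoSet x, 2 * rsum (ids c) k := by
    intro c hc
    obtain ⟨hl, he⟩ := hcs c hc
    have hr : ∀ k : Fin 56, S.testBit k.val = true → rsum (ids c) k % 2 = 0 := by
      intro k hk
      have h := congrArg (fun m => m.testBit k.val) (Nat.eq_of_beq_eq_true he)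
      simp only [Nat.testBit_and, hk, Bool.true_and, Nat.zero_testBit, rsum_odd hl] at h
      have := of_decide_eq_false h
      omega
    have h4 := dvd_sub (dvd_dot hx (rsum_mem hl)) (two_congr hS hr)
    rw [sumS_eq S hl]
    obtain ⟨t, ht⟩ := h4
    exact ⟨t, by linarith⟩
  -- an even number of twos
  have hev : (twoSet x).card ≠ 1 := by
    intro h1c
    obtain ⟨a, ha⟩ := Finset.card_eq_one.mp h1c
    have hmod : ∑ k, x k * x k % 8 = ∑ k, (if k ∈ oddSet x then (1 : ℤ) else if k ∈ twoSet x then 4 else 0) := by
      refine Finset.sum_congr rfl fun k _ => ?_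
      by_cases h1 : x k % 2 = 1
      · rw [if_pos (by simp [oddSet, h1])]
        obtain ⟨t, ht⟩ : ∃ t, x k = 2 * t + 1 := ⟨x k / 2, by omega⟩
        obtain ⟨u, hu⟩ := (Int.even_mul_succ_self t)
        rw [ht, show (2 * t + 1) * (2 * t + 1) = 8 * u + 1 by linear_combination 4 * hu]
        omega
      · rw [if_neg (by simp [oddSet, h1])]
        by_cases h2 : x k % 4 = 2
        · rw [if_pos (by simp [twoSet, h2])]
          obtain ⟨t, ht⟩ : ∃ t, x k = 4 * t + 2 := ⟨x k / 4, by omega⟩
          rw [ht, show (4 * t + 2) * (4 * t + 2) = 8 * (2 * t * t + 2 * t) + 4 by ring]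
          omega
        · rw [if_neg (by simp [twoSet, h2])]
          obtain ⟨t, ht⟩ : ∃ t, x k = 4 * t := ⟨x k / 4, by omega⟩
          rw [ht, show (4 * t) * (4 * t) = 8 * (2 * t * t) by ring]
          omega
    have htot : (∑ k, x k * x k) % 8 = (∑ k, x k * x k % 8) % 8 := Finset.sum_int_mod ..
    have e12 : ∑ k, (if k ∈ oddSet x then (1 : ℤ) else if k ∈ twoSet x then 4 else 0) = 12 := by
      rw [← Finset.sum_filter_add_sum_filter_not Finset.univ (fun k => k ∈ oddSet x)]
      rw [Finset.sum_congr rfl (g := fun _ => (1 : ℤ)) fun k hk => if_pos (Finset.mem_filter.mp hk).2,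
        Finset.sum_congr rfl (g := fun k => if k ∈ twoSet x then (4 : ℤ) else 0)
          fun k hk => if_neg (Finset.mem_filter.mp hk).2]
      rw [Finset.sum_ite_mem, ha]
      have : (Finset.univ.filter fun k => k ∈ oddSet x) = oddSet x := by simp
      rw [this, Finset.sum_const, hc]
      have haS : a ∉ oddSet x := fun h => Finset.disjoint_left.mp hdisj h (by simp [ha])
      have : (Finset.univ.filter fun k => k ∉ oddSet x) ∩ {a} = {a} := by
        ext k; simp; rintro rfl; exact haS
      rw [this]
      norm_num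
    rw [show (∑ k, x k * x k) = 16 from h16, hmod, e12] at htot
    norm_num at htot
  rcases (show (twoSet x).card = 0 ∨ (twoSet x).card = 2 by omega) with h0 | h2c
  · obtain ⟨c, hc, hn⟩ := List.any_eq_true.mp hne
    have h4 := hkey c hc
    rw [Finset.card_eq_zero.mp h0, Finset.sum_empty, add_zero] at h4
    rw [Bool.not_eq_true'] at hn
    have := Nat.ne_of_beq_eq_false hn
    omega
  · obtain ⟨a, b, hab, hT⟩ := Finset.card_eq_two.mp h2c
    have hnot : ∀ k ∈ twoSet x, S.testBit k.val = false := by
      intro k hk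
      rw [← hS, mask_testBit, decide_eq_false]
      have := (Finset.mem_filter.mp hk).2
      omega
    have ha := hnot a (by simp [hT])
    have hb := hnot b (by simp [hT])
    have hp := hpairs a.val (List.mem_range.mpr a.isLt)
    simp only [ha, Bool.false_or] at hp
    have hrest := congrArg (fun m => m.testBit b.val) (Nat.eq_of_beq_eq_true hp)
    simp only [Nat.testBit_and, Nat.testBit_xor, Nat.testBit_or, Nat.one_shiftLeft,
      Nat.testBit_two_pow, Nat.testBit_two_pow_sub_one, hb, b.isLt, decide_true,
      decide_eq_false (p := a.val = b.val) fun e => hab (Fin.ext e), Bool.or_self, Bool.xor_false,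
      Bool.and_true] at hrest
    obtain ⟨c, hc, hk⟩ := killed_bit hrest
    obtain ⟨hl, he⟩ := hcs c hc
    have h4 := hkey c hc
    rw [hT, Finset.sum_pair hab] at h4
    have hse : sumS S (ids c) % 2 = 0 := by omega
    unfold killMask at hk
    rw [rsum_odd hl] at hk
    by_cases hs2 : sumS S (ids c) % 4 = 2
    · rw [show Nat.beq (sumS S (ids c) % 4) 2 = true by rw [hs2]; rfl] at hk
      by_cases hA : rsum (ids c) a % 2 = 1
      · simp only [hA, decide_true, Bool.xor_self, cond_false, rsum_odd hl,
          decide_eq_true_eq] at hk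
        omega
      · simp only [hA, decide_false, Bool.xor_false, cond_true, Nat.testBit_xor,
          Nat.testBit_two_pow_sub_one, b.isLt, decide_true, rsum_odd hl, Bool.true_xor,
          Bool.not_eq_true', decide_eq_false_iff_not] at hk
        omega
    · rw [show Nat.beq (sumS S (ids c) % 4) 2 = false from
        Bool.eq_false_iff.mpr fun hh => hs2 (Nat.eq_of_beq_eq_true hh)] at hk
      by_cases hA : rsum (ids c) a % 2 = 1
      · simp only [hA, decide_true, Bool.false_xor, cond_true, Nat.testBit_xor,
          Nat.testBit_two_pow_sub_one, b.isLt, rsum_odd hl, Bool.true_xor,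
          Bool.not_eq_true', decide_eq_false_iff_not] at hk
        omega
      · simp only [hA, decide_false, Bool.false_xor, cond_false, rsum_odd hl,
          decide_eq_true_eq] at hk
        omega

theorem even_case (H : Checks) {x : Vec} (hx : x ∈ lat) (h16 : dot x x = 16) (hS : mask x = 0) :
    ∃ k : Fin 56, x = Pi.single k 4 ∨ x = Pi.single k (-4) := by
  have he : ∀ k, x k % 2 = 0 := fun k => by
    have h := mask_testBit x k
    rw [hS, Nat.zero_testBit] at h
    have := of_decide_eq_false h.symm
    omega
  rcases Finset.eq_empty_or_nonempty (twoSet x) with hT | hT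
  · -- all coordinates divisible by four
    have h4 : ∀ k, ∃ c, x k = 4 * c := fun k => ⟨x k / 4, by
      have := he k
      by_cases h : x k % 4 = 2
      · exact absurd (show k ∈ twoSet x by simp [twoSet, h]) (by simp [hT])
      · omega⟩
    choose y hy using h4
    have hsum : ∑ k, y k * y k = 1 := by
      have e : dot x x = 16 * ∑ k, y k * y k := by
        rw [dot, Finset.mul_sum]
        exact Finset.sum_congr rfl fun k _ => by rw [hy k]; ring
      omega
    obtain ⟨k, hk⟩ : ∃ k, y k ≠ 0 := by
      by_contra hall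
      push_neg at hall
      simp [hall] at hsum
    have hle := Finset.single_le_sum (f := fun l => y l * y l)
      (fun l _ => mul_self_nonneg (y l)) (Finset.mem_univ k)
    have hk1 : y k * y k = 1 := by
      have := mul_self_pos.2 hk
      omega
    have hzero : ∀ l, l ≠ k → y l = 0 := by
      intro l hl
      have h := Finset.sum_erase_add Finset.univ (fun l => y l * y l) (Finset.mem_univ k)
      have h' := Finset.single_le_sum (f := fun l => y l * y l) (fun l _ => mul_self_nonneg (y l))
        (Finset.mem_erase.mpr ⟨hl, Finset.mem_univ l⟩)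
      exact mul_self_eq_zero.1 (le_antisymm (by omega) (mul_self_nonneg _))
    refine ⟨k, ?_⟩
    rcases mul_self_eq_one_iff.1 hk1 with h | h
    · refine Or.inl (funext fun l => ?_)
      rcases eq_or_ne l k with rfl | hl
      · simp [hy, h]
      · simp [hy, hzero l hl, Pi.single_eq_of_ne hl]
    · refine Or.inr (funext fun l => ?_)
      rcases eq_or_ne l k with rfl | hl
      · simp [hy, h]
      · simp [hy, hzero l hl, Pi.single_eq_of_ne hl]
  · exfalso
    have hle : ∑ k ∈ twoSet x, x k * x k ≤ 16 := by
      rw [← h16, dot]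
      exact Finset.sum_le_univ_sum_of_nonneg fun k => mul_self_nonneg _
    have h2 := Finset.card_nsmul_le_sum (twoSet x) (fun k => x k * x k) 4 fun k hk => four_le_two hk
    simp only [nsmul_eq_mul] at h2
    have hc4 : (twoSet x).card ≤ 4 := by
      have : ((twoSet x).card : ℤ) ≤ 4 := by omega
      exact_mod_cast this
    have hpar : ∀ j : Fin 40, Even ((twoSet x).filter fun k : Fin 56 =>
        (colB.getD k.val 0).testBit j.val = true).card := by
      intro j
      have h1 := two_congr (r := row j) hS fun k hk => by simp at hk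
      simp only [Nat.zero_testBit, Bool.false_eq_true, if_false, Finset.sum_const_zero, sub_zero] at h1
      obtain ⟨q, hq⟩ := dvd_sub (dvd_dot hx (row_mem j)) h1
      rw [← Finset.mul_sum] at hq
      have hd : (2 : ℤ) ∣ ∑ k ∈ twoSet x, row j k := ⟨q, by linarith⟩
      have e : (2 : ℤ) ∣ (∑ k ∈ twoSet x, row j k) - ((twoSet x).filter fun k : Fin 56 =>
          (colB.getD k.val 0).testBit j.val = true).card := by
        rw [Finset.card_filter, Nat.cast_sum, ← Finset.sum_sub_distrib]
        refine Finset.dvd_sum fun k _ => ?_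
        rw [H.cols k j, show row j k = ((ent j k : ℕ) : ℤ) from rfl, row_bits j k]
        cases (rowB.getD j.val 0).testBit k.val <;> cases (rowH.getD j.val 0).testBit k.val <;>
          norm_num
      have := dvd_sub hd e
      rw [sub_sub_cancel] at this
      exact even_iff_two_dvd.mpr (by exact_mod_cast this)
    obtain ⟨q, hq⟩ : ∃ q, 16 = dot x x ∧ (twoSet x).card = q := ⟨_, h16.symm, rfl⟩
    have hcount : (twoSet x).card = 4 := by
      have hmod : ∀ k, x k * x k % 16 = if k ∈ twoSet x then 4 else 0 := by
        intro k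
        have := he k
        by_cases h2 : x k % 4 = 2
        · rw [if_pos (by simp [twoSet, h2])]
          obtain ⟨t, ht⟩ : ∃ t, x k = 4 * t + 2 := ⟨x k / 4, by omega⟩
          rw [ht, show (4 * t + 2) * (4 * t + 2) = 16 * (t * t + t) + 4 by ring]
          omega
        · rw [if_neg (by simp [twoSet, h2])]
          obtain ⟨t, ht⟩ : ∃ t, x k = 4 * t := ⟨x k / 4, by omega⟩
          rw [ht, show (4 * t) * (4 * t) = 16 * (t * t) by ring]
          omega
      have htot := Finset.sum_int_mod (Finset.univ : Finset (Fin 56)) 16 (fun k => x k * x k)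
      rw [show (∑ k, x k * x k) = 16 from h16, Finset.sum_congr rfl fun k _ => hmod k,
        Finset.sum_ite_mem, Finset.univ_inter, Finset.sum_const, nsmul_eq_mul] at htot
      have := hT.card_pos
      omega
    obtain ⟨a, T3, haT, hT3, hc3⟩ := Finset.card_eq_succ.mp hcount
    obtain ⟨b, c, d, hbc, hbd, hcd, hset⟩ := Finset.card_eq_three.mp hc3
    have hxor : colB.getD a.val 0 ^^^ colB.getD b.val 0 = colB.getD c.val 0 ^^^ colB.getD d.val 0 := by
      refine Nat.eq_of_testBit_eq fun j => ?_
      by_cases hj : j < 40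
      · have hev := hpar ⟨j, hj⟩
        rw [← hT3, hset] at hev
        rw [hset] at haT
        simp only [Finset.mem_insert, Finset.mem_singleton, not_or] at haT
        rw [Nat.testBit_xor, Nat.testBit_xor]
        simp only [Finset.card_filter, Finset.sum_insert, Finset.mem_insert, Finset.mem_singleton,
          Finset.sum_singleton, haT.1, haT.2.1, haT.2.2, hbc, hbd, hcd, or_self,
          not_false_eq_true] at hev
        revert hev
        cases (colB.getD a.val 0).testBit j <;> cases (colB.getD b.val 0).testBit j <;>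
          cases (colB.getD c.val 0).testBit j <;> cases (colB.getD d.val 0).testBit j <;> decide
      · rw [Nat.testBit_xor, Nat.testBit_xor]
        have hlt : ∀ k : Fin 56, (colB.getD k.val 0).testBit j = false := fun k =>
          Nat.testBit_lt_two_pow ((H.colsLt k).trans_le (Nat.pow_le_pow_right (by norm_num) (by omega)))
        rw [hlt a, hlt b, hlt c, hlt d]
    have hstrict : ∀ q, q < 1540 → ∀ p, p < q →
        colB.getD (look pairSrt p 0 / 56) 0 ^^^ colB.getD (look pairSrt p 0 % 56) 0 <
          colB.getD (look pairSrt q 0 / 56) 0 ^^^ colB.getD (look pairSrt q 0 % 56) 0 := by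
      intro q
      induction q with
      | zero => intro _ p hp; omega
      | succ q ih =>
        intro hq p hp
        have h := H.pair (q + 1) hq
        simp only [pairOK, forceNat_eq, Bool.and_eq_true, Bool.or_eq_true] at h
        have h1 : colB.getD (look pairSrt q 0 / 56) 0 ^^^ colB.getD (look pairSrt q 0 % 56) 0 <
            colB.getD (look pairSrt (q + 1) 0 / 56) 0 ^^^
              colB.getD (look pairSrt (q + 1) 0 % 56) 0 := by
          rcases h.2 with h' | h'
          · have := Nat.eq_of_beq_eq_true h'; omega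
          · exact Nat.le_of_ble_eq_true h'
        rcases Nat.lt_succ_iff_lt_or_eq.mp hp with h3 | rfl
        · exact (ih (by omega) p h3).trans h1
        · exact h1
    have hinj : ∀ a b c d : Fin 56, a < b → c < d →
        colB.getD a.val 0 ^^^ colB.getD b.val 0 = colB.getD c.val 0 ^^^ colB.getD d.val 0 →
        a = c ∧ b = d := by
      intro a b c d hab hcd e
      obtain ⟨p1, e1⟩ := H.rank a b hab
      obtain ⟨p2, e2⟩ := H.rank c d hcd
      have hq : look pairRk (a.val * 56 + b.val) 0 = look pairRk (c.val * 56 + d.val) 0 := by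
        rcases lt_trichotomy (look pairRk (a.val * 56 + b.val) 0)
          (look pairRk (c.val * 56 + d.val) 0) with h | h | h
        · have := hstrict _ p2 _ h
          rw [e1, e2] at this
          rw [show (a.val * 56 + b.val) / 56 = a.val by omega,
            show (a.val * 56 + b.val) % 56 = b.val by omega,
            show (c.val * 56 + d.val) / 56 = c.val by omega,
            show (c.val * 56 + d.val) % 56 = d.val by omega] at this
          omega
        · exact h
        · have := hstrict _ p1 _ h
          rw [e1, e2] at this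
          rw [show (a.val * 56 + b.val) / 56 = a.val by omega,
            show (a.val * 56 + b.val) % 56 = b.val by omega,
            show (c.val * 56 + d.val) / 56 = c.val by omega,
            show (c.val * 56 + d.val) % 56 = d.val by omega] at this
          omega
      have := congrArg (fun q => look pairSrt q 0) hq
      simp only [e1, e2] at this
      exact ⟨Fin.ext (by omega), Fin.ext (by omega)⟩
    rw [hset] at haT
    simp only [Finset.mem_insert, Finset.mem_singleton, not_or] at haT
    rcases lt_or_gt_of_ne haT.1 with h1 | h1 <;> rcases lt_or_gt_of_ne hcd with h2 | h2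
    · exact haT.2.1 (hinj a b c d h1 h2 hxor).1
    · exact haT.2.2 (hinj a b d c h1 h2 (hxor.trans (Nat.xor_comm _ _))).1
    · exact haT.2.2 (hinj b a c d h1 h2 ((Nat.xor_comm _ _).trans hxor)).2
    · exact haT.2.1 (hinj b a d c h1 h2
        ((Nat.xor_comm _ _).trans (hxor.trans (Nat.xor_comm _ _)))).2

theorem classify (H : Checks) {x : Vec} (hx : x ∈ lat) (h16 : dot x x = 16) :
    (∃ k : Fin 56, x = Pi.single k 4 ∨ x = Pi.single k (-4)) ∨
      ∃ n < 512, ∃ e ∈ goods n, Signs (word n (e.getD 0 0)) x := by
  obtain ⟨u, hu, w, hw, hm⟩ := mask_mem hx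
  obtain ⟨n, hn, rfl⟩ := exists_spanAt hu
  obtain ⟨i, hi, rfl⟩ := exists_spanAt hw
  rw [show basisU.length = 9 by decide +kernel] at hn
  rw [show basisW.length = 10 by decide +kernel] at hi
  norm_num at hn hi
  have hpl : ∀ k : Fin 28, (planes.getD k.val 0).testBit i = (spanAt basisW i).testBit (2 * k.val) := by
    intro k
    have h := H.plane i hi
    rw [planeOK, forceNat_eq, List.all_eq_true] at h
    exact beq_iff_eq.mp (h k.val (List.mem_range.mpr k.isLt))
  have hwz := pairCode_span_W pair_W hw
  have hwp : ∀ k : Fin 28, (spanAt basisW i).testBit (2 * k.val + 1) =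
      (spanAt basisW i).testBit (2 * k.val) := by
    intro k
    have h := pairCode_testBit 28 (spanAt basisW i) k.val k.isLt
    rw [hwz, Nat.zero_testBit] at h
    revert h
    cases (spanAt basisW i).testBit (2 * k.val) <;>
      cases (spanAt basisW i).testBit (2 * k.val + 1) <;> simp
  have hle : ones 56 (mask x) ≤ 16 := by
    have := card_odd_le x
    rw [ones_mask]
    omega
  rw [hm] at hle
  have hl := light_bit hi hpl hwp hle
  have hok := H.index n hn
  simp only [indexOK, Bool.and_eq_true, List.all_eq_true] at hok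
  obtain ⟨⟨⟨hmask, hgood⟩, hbad⟩, height⟩ := hok
  rw [Nat.eq_of_beq_eq_true hmask, Nat.testBit_or, Nat.testBit_or, Nat.testBit_or] at hl
  simp only [Bool.or_eq_true] at hl
  rcases hl with (hl | hl | hl) | hl
  · obtain ⟨e, he, hei⟩ := idxMask_bit hl
    have h := hgood e he
    simp only [goodEntry, forceNat_eq, Bool.and_eq_true] at h
    rw [hei] at h
    refine Or.inr ⟨n, hn, e, he, ?_⟩
    rw [hei]
    exact signs_of_sixteen h16 hm (Nat.eq_of_beq_eq_true h.1)
  · obtain ⟨e, he, hei⟩ := idxMask_bit hl
    have h := hbad e he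
    simp only [badEntry, forceNat_eq, Bool.and_eq_true, Bool.not_eq_true'] at h
    rw [hei] at h
    exact (bad_key hx (signs_of_sixteen h16 hm (Nat.eq_of_beq_eq_true h.1.1.1)) h.1.1.2
      (Nat.eq_of_beq_eq_true h.1.2) (Nat.ne_of_beq_eq_false h.2)).elim
  · obtain ⟨e, he, hei⟩ := idxMask_bit hl
    exact (no_octad hx h16 hm (by rw [word, hei]) (height e he)).elim
  · by_cases h0 : n = 0
    · subst h0
      simp only [Nat.beq_refl, cond_true, Nat.testBit_one_eq_true_iff_self_eq_zero] at hl
      subst hl
      refine Or.inl (even_case H hx h16 (hm.trans ?_))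
      decide +kernel
    · rw [Bool.eq_false_iff.mpr fun hh => h0 (Nat.eq_of_beq_eq_true hh)] at hl
      simp at hl

/-- The vectors of norm 16. -/
def minSet : Set Vec := {x | x ∈ lat ∧ dot x x = 16}

theorem minSet_finite : minSet.Finite := by
  refine Set.Finite.subset (Set.Finite.pi (t := fun _ : Fin 56 => Set.Icc (-16 : ℤ) 16)
    fun _ => Set.finite_Icc _ _) ?_
  intro x hx k _
  have h := Finset.single_le_sum (f := fun k => x k * x k) (fun l _ => mul_self_nonneg (x l))
    (Finset.mem_univ k)
  rw [show (∑ k, x k * x k) = 16 from hx.2] at h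
  constructor <;> nlinarith

theorem total_eq : ∀ m : ℕ, totalTo m =
    ∑ n ∈ Finset.range m, ((goods n).map fun e => 2 ^ pop8 7 (e.getD 1 0)).sum
  | 0 => rfl
  | m + 1 => by
    rw [Finset.sum_range_succ, ← total_eq m]
    show (forceNat (totalTo m) fun t => ((goods m).map fun e => 2 ^ pop8 7 (e.getD 1 0)).sum + t) = _
    rw [forceNat_eq, Nat.add_comm]

theorem sum_toFinset_le {α : Type*} [DecidableEq α] (g : α → ℕ) :
    ∀ l : List α, ∑ e ∈ l.toFinset, g e ≤ (l.map g).sum
  | [] => by simp
  | a :: l => by
    rw [List.toFinset_cons, List.map_cons, List.sum_cons]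
    by_cases h : a ∈ l.toFinset
    · rw [Finset.insert_eq_of_mem h]
      exact (sum_toFinset_le g l).trans (Nat.le_add_left _ _)
    · rw [Finset.sum_insert h]
      exact Nat.add_le_add_left (sum_toFinset_le g l) _

theorem signs_card (H : Checks) {n : ℕ} (hn : n < 512) {e : List ℕ} (he : e ∈ goods n) :
    (minSet ∩ {x | Signs (word n (e.getD 0 0)) x}).ncard ≤ 2 ^ pop8 7 (e.getD 1 0) := by
  classical
  have hok := H.index n hn
  simp only [indexOK, Bool.and_eq_true, List.all_eq_true] at hok
  have hg := hok.1.1.2 e he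
  simp only [goodEntry, forceNat_eq, Bool.and_eq_true] at hg
  set S := word n (e.getD 0 0)
  set F := e.getD 1 0
  have hsub : S &&& F = F := by
    have h := hg.2
    simp only [goodOK, Bool.and_eq_true] at h
    exact Nat.eq_of_beq_eq_true h.1.1
  rw [pop_filter, ← Finset.card_powerset]
  refine (Set.ncard_le_ncard_of_injOn
    (fun x : Vec => Finset.univ.filter fun k : Fin 56 => F.testBit k.val = true ∧ x k = 1)
    (t := ((Finset.univ.filter fun k : Fin 56 => F.testBit k.val = true).powerset : Set (Finset (Fin 56))))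
    (fun x _ => ?_) ?_ (Finset.finite_toSet _)).trans (le_of_eq (Set.ncard_coe_finset _))
  · rw [Finset.mem_coe, Finset.mem_powerset]
    intro k hk
    simp only [Finset.mem_filter] at hk ⊢
    exact ⟨hk.1, hk.2.1⟩
  · intro x hx y hy hxy
    refine good_key hg.2 hx.1.1 hy.1.1 hx.2 hy.2 fun k hk => ?_
    have hSk : S.testBit k.val = true := by
      have h := congrArg (fun m => m.testBit k.val) hsub
      simp only [Nat.testBit_and, hk, Bool.and_true] at h
      exact h
    have h1 := hx.2 k
    have h2 := hy.2 k
    rw [if_pos hSk] at h1 h2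
    have h := Finset.ext_iff.mp hxy k
    simp only [Finset.mem_filter, Finset.mem_univ, true_and, hk] at h
    rcases h1 with h1 | h1 <;> rcases h2 with h2 | h2 <;> rw [h1, h2] at h ⊢ <;> simp at h

theorem min_card_le (H : Checks) : minSet.ncard ≤ 16240 := by
  classical
  let A : Set Vec :=
    Set.range (fun k : Fin 56 => (Pi.single k 4 : Vec)) ∪ Set.range (fun k : Fin 56 => Pi.single k (-4))
  let idx : Finset (Σ _ : ℕ, List ℕ) := (Finset.range 512).sigma fun n => (goods n).toFinset
  let piece : (Σ _ : ℕ, List ℕ) → Set Vec := fun p =>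
    minSet ∩ {x | Signs (word p.1 (p.2.getD 0 0)) x}
  have hcov : minSet ⊆ A ∪ ⋃ p ∈ idx, piece p := by
    intro x hx
    rcases classify H hx.1 hx.2 with ⟨k, h | h⟩ | ⟨n, hn, e, he, h⟩
    · exact Or.inl (Or.inl ⟨k, h.symm⟩)
    · exact Or.inl (Or.inr ⟨k, h.symm⟩)
    · refine Or.inr (Set.mem_iUnion₂.mpr ⟨⟨n, e⟩, ?_, hx, h⟩)
      simp [idx, hn, he]
  have hfin : ∀ p, (piece p).Finite := fun p => minSet_finite.subset Set.inter_subset_left
  have hA : A.ncard ≤ 56 + 56 := by
    refine (Set.ncard_union_le _ _).trans (Nat.add_le_add ?_ ?_) <;>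
      · rw [← Nat.card_coe_set_eq]
        exact (Finite.card_range_le _).trans (le_of_eq (Nat.card_fin 56))
  have hU : (⋃ p ∈ idx, piece p).ncard ≤ 16128 := by
    refine (Finset.set_ncard_biUnion_le idx piece).trans ?_
    rw [← H.total, total_eq, Finset.sum_sigma]
    refine Finset.sum_le_sum fun n hn => ?_
    rw [Finset.mem_range] at hn
    calc ∑ e ∈ (goods n).toFinset, (piece ⟨n, e⟩).ncard
        ≤ ∑ e ∈ (goods n).toFinset, 2 ^ pop8 7 (e.getD 1 0) :=
          Finset.sum_le_sum fun e he => signs_card H hn (List.mem_toFinset.mp he)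
      _ ≤ _ := sum_toFinset_le _ _
  calc minSet.ncard ≤ (A ∪ ⋃ p ∈ idx, piece p).ncard :=
        Set.ncard_le_ncard hcov ((Set.toFinite A).union (idx.finite_toSet.biUnion fun p _ => hfin p))
    _ ≤ A.ncard + (⋃ p ∈ idx, piece p).ncard := Set.ncard_union_le _ _
    _ ≤ 16240 := by omega

end Cfsg.Agent.RuMult82.Lattice
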