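import Cfsg.Agent.RuMult82.Lattice.MinBound

/-!
The checks for the vectors of norm 16.
-/

set_option autoImplicit false
set_option maxRecDepth 100000

namespace Cfsg.Agent.RuMult82.Lattice

open Cfsg.Agent.CosetEnum
open Cfsg.Agent.SporB.Ru (look)

theorem plane_0 : allRange planeOK 0 128 = true := by decide +kernel

theorem plane_1 : allRange planeOK 128 128 = true := by decide +kernel

theorem plane_2 : allRange planeOK 256 128 = true := by decide +kernel

theorem plane_3 : allRange planeOK 384 128 = true := by decide +kernel

theorem plane_4 : allRange planeOK 512 128 = true := by decide +kernel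

theorem plane_5 : allRange planeOK 640 128 = true := by decide +kernel

theorem plane_6 : allRange planeOK 768 128 = true := by decide +kernel

theorem plane_7 : allRange planeOK 896 128 = true := by decide +kernel

theorem index_0 : allRange indexOK 0 32 = true := by decide +kernel

theorem index_1 : allRange indexOK 32 32 = true := by decide +kernel

theorem index_2 : allRange indexOK 64 32 = true := by decide +kernel

theorem index_3 : allRange indexOK 96 32 = true := by decide +kernel

theorem index_4 : allRange indexOK 128 32 = true := by decide +kernel

theorem index_5 : allRange indexOK 160 32 = true := by decide +kernel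

theorem index_6 : allRange indexOK 192 32 = true := by decide +kernel

theorem index_7 : allRange indexOK 224 32 = true := by decide +kernel

theorem index_8 : allRange indexOK 256 32 = true := by decide +kernel

theorem index_9 : allRange indexOK 288 32 = true := by decide +kernel

theorem index_10 : allRange indexOK 320 32 = true := by decide +kernel

theorem index_11 : allRange indexOK 352 32 = true := by decide +kernel

theorem index_12 : allRange indexOK 384 32 = true := by decide +kernel

theorem index_13 : allRange indexOK 416 32 = true := by decide +kernel

theorem index_14 : allRange indexOK 448 32 = true := by decide +kernel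

theorem index_15 : allRange indexOK 480 32 = true := by decide +kernel

theorem pair_0 : allRange pairOK 0 385 = true := by decide +kernel

theorem pair_1 : allRange pairOK 385 385 = true := by decide +kernel

theorem pair_2 : allRange pairOK 770 385 = true := by decide +kernel

theorem pair_3 : allRange pairOK 1155 385 = true := by decide +kernel

theorem cols_ok : ∀ k : Fin 56, ∀ j : Fin 40,
    (colB.getD k.val 0).testBit j.val = (rowB.getD j.val 0).testBit k.val := by decide +kernel

theorem cols_lt : ∀ k : Fin 56, colB.getD k.val 0 < 2 ^ 40 := by decide +kernel

/-- The rank of a pair is right. -/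
noncomputable def rankOK (c : ℕ) : Bool :=
  bif Nat.blt (c / 56) (c % 56) then
    forceNat (look pairRk c 0) fun q => Nat.blt q 1540 && Nat.beq (look pairSrt q 0) c
  else true

theorem rank_ok : allRange rankOK 0 3136 = true := by decide +kernel

theorem total_ok : Nat.beq (totalTo 512) 16128 = true := by decide +kernel

theorem plane_all : ∀ i, i < 1024 → planeOK i = true := by
  intro i hi
  rcases Nat.lt_or_ge i 128 with h0 | h0
  · exact allRange_spec plane_0 i (by omega) (by omega)
  rcases Nat.lt_or_ge i 256 with h1 | h1
  · exact allRange_spec plane_1 i (by omega) (by omega)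
  rcases Nat.lt_or_ge i 384 with h2 | h2
  · exact allRange_spec plane_2 i (by omega) (by omega)
  rcases Nat.lt_or_ge i 512 with h3 | h3
  · exact allRange_spec plane_3 i (by omega) (by omega)
  rcases Nat.lt_or_ge i 640 with h4 | h4
  · exact allRange_spec plane_4 i (by omega) (by omega)
  rcases Nat.lt_or_ge i 768 with h5 | h5
  · exact allRange_spec plane_5 i (by omega) (by omega)
  rcases Nat.lt_or_ge i 896 with h6 | h6
  · exact allRange_spec plane_6 i (by omega) (by omega)
  exact allRange_spec plane_7 i (by omega) (by omega)

theorem index_all : ∀ i, i < 512 → indexOK i = true := by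
  intro i hi
  rcases Nat.lt_or_ge i 32 with h0 | h0
  · exact allRange_spec index_0 i (by omega) (by omega)
  rcases Nat.lt_or_ge i 64 with h1 | h1
  · exact allRange_spec index_1 i (by omega) (by omega)
  rcases Nat.lt_or_ge i 96 with h2 | h2
  · exact allRange_spec index_2 i (by omega) (by omega)
  rcases Nat.lt_or_ge i 128 with h3 | h3
  · exact allRange_spec index_3 i (by omega) (by omega)
  rcases Nat.lt_or_ge i 160 with h4 | h4
  · exact allRange_spec index_4 i (by omega) (by omega)
  rcases Nat.lt_or_ge i 192 with h5 | h5
  · exact allRange_spec index_5 i (by omega) (by omega)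
  rcases Nat.lt_or_ge i 224 with h6 | h6
  · exact allRange_spec index_6 i (by omega) (by omega)
  rcases Nat.lt_or_ge i 256 with h7 | h7
  · exact allRange_spec index_7 i (by omega) (by omega)
  rcases Nat.lt_or_ge i 288 with h8 | h8
  · exact allRange_spec index_8 i (by omega) (by omega)
  rcases Nat.lt_or_ge i 320 with h9 | h9
  · exact allRange_spec index_9 i (by omega) (by omega)
  rcases Nat.lt_or_ge i 352 with h10 | h10
  · exact allRange_spec index_10 i (by omega) (by omega)
  rcases Nat.lt_or_ge i 384 with h11 | h11
  · exact allRange_spec index_11 i (by omega) (by omega)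
  rcases Nat.lt_or_ge i 416 with h12 | h12
  · exact allRange_spec index_12 i (by omega) (by omega)
  rcases Nat.lt_or_ge i 448 with h13 | h13
  · exact allRange_spec index_13 i (by omega) (by omega)
  rcases Nat.lt_or_ge i 480 with h14 | h14
  · exact allRange_spec index_14 i (by omega) (by omega)
  exact allRange_spec index_15 i (by omega) (by omega)

theorem pair_all : ∀ i, i < 1540 → pairOK i = true := by
  intro i hi
  rcases Nat.lt_or_ge i 385 with h0 | h0
  · exact allRange_spec pair_0 i (by omega) (by omega)
  rcases Nat.lt_or_ge i 770 with h1 | h1
  · exact allRange_spec pair_1 i (by omega) (by omega)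
  rcases Nat.lt_or_ge i 1155 with h2 | h2
  · exact allRange_spec pair_2 i (by omega) (by omega)
  exact allRange_spec pair_3 i (by omega) (by omega)

theorem checks : Checks where
  plane := plane_all
  index := index_all
  pair := pair_all
  cols := cols_ok
  colsLt := cols_lt
  total := Nat.eq_of_beq_eq_true total_ok
  rank a b h := by
    have hlt : a.val < b.val := h
    have e1 : (a.val * 56 + b.val) / 56 = a.val := by omega
    have e2 : (a.val * 56 + b.val) % 56 = b.val := by omega
    have hr := allRange_spec rank_ok (a.val * 56 + b.val) (by omega) (by omega)
    simp only [rankOK, e1, e2, forceNat_eq] at hr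
    rw [show Nat.blt a.val b.val = true from Nat.ble_eq.mpr hlt, cond_true, Bool.and_eq_true] at hr
    exact ⟨Nat.le_of_ble_eq_true hr.1, Nat.eq_of_beq_eq_true hr.2⟩

theorem min_card : minSet.ncard ≤ 16240 := min_card_le checks

end Cfsg.Agent.RuMult82.Lattice
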