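import Cfsg.Agent.RuLattice.Basic
import Cfsg.Agent.RuMult82.Lattice.Aut
import Cfsg.Agent.RuMult82.Lattice.MinData

/-!
Tools bounding the number of vectors of norm 16: sums of table rows used as linear functionals,
and an enumeration of the parity code by weight.
-/

set_option autoImplicit false
set_option maxRecDepth 100000

namespace Cfsg.Agent.RuMult82.Lattice

open Cfsg.Agent.CosetEnum
open Cfsg.Agent.RuLattice (Vec ent row lat mask mask_testBit mask_congr mask_add dot span span_nil
  span_cons ones ones_succ pairCode pairCode_testBit pairCode_xor pair_W pairCode_span_W row_mem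
  dvd_dot basisU basisW mask_mem ones_mask ones_eq_card card_odd_le)

/-! ### Sums of rows -/

/-- Decode a list of row numbers, one more than each in six bits. -/
noncomputable def idsAux : ℕ → ℕ → List ℕ :=
  Nat.rec (motive := fun _ => ℕ → List ℕ) (fun _ => [])
    (fun _ ih c => forceNat c fun c => bif Nat.beq c 0 then [] else (c % 64 - 1) :: ih (c / 64))

/-- Decode a list of row numbers. -/
noncomputable def ids (c : ℕ) : List ℕ := idsAux 40 c

/-- All row numbers are in range. -/
def idsOK (l : List ℕ) : Bool := l.all fun j => Nat.blt j 40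

/-- A sum of rows. -/
def rsum (l : List ℕ) : Vec := fun k => (l.map fun j => row j k).sum

/-- The parities of a sum of rows. -/
def rbit (l : List ℕ) : ℕ := l.foldr (fun j acc => rowB.getD j 0 ^^^ acc) 0

/-- The sum of the coordinates of a sum of rows over a mask. -/
noncomputable def sumS (S : ℕ) (l : List ℕ) : ℕ :=
  List.rec (motive := fun _ => ℕ) 0
    (fun j _ ih => pop8 7 (S &&& rowB.getD j 0) + 2 * pop8 7 (S &&& rowH.getD j 0) + ih) l

theorem row_bits : ∀ j : Fin 40, ∀ k : Fin 56, ent j k =
    ((rowB.getD j.val 0).testBit k.val).toNat + 2 * ((rowH.getD j.val 0).testBit k.val).toNat := by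
  decide +kernel

theorem row_masks : ∀ j : Fin 40, rowB.getD j.val 0 < 2 ^ 56 := by decide +kernel

theorem testBit_false_of_lt {x k : ℕ} (hx : x < 2 ^ 56) (hk : 56 ≤ k) : x.testBit k = false :=
  Nat.testBit_lt_two_pow (hx.trans_le (Nat.pow_le_pow_right (by norm_num) hk))

theorem mask_row (j : Fin 40) : mask (row j) = rowB.getD j.val 0 := by
  refine Nat.eq_of_testBit_eq fun i => ?_
  by_cases hi : i < 56
  · rw [mask_testBit (row j) ⟨i, hi⟩]
    show decide (((ent j ⟨i, hi⟩ : ℕ) : ℤ) % 2 = 1) = _
    rw [row_bits j ⟨i, hi⟩]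
    cases (rowB.getD j.val 0).testBit i <;> cases (rowH.getD j.val 0).testBit i <;> rfl
  · rw [testBit_false_of_lt (row_masks j) (not_lt.1 hi), mask,
      Nat.testBit_ofBits_ge _ _ (not_lt.1 hi)]

theorem rsum_cons (j : ℕ) (l : List ℕ) : rsum (j :: l) = row j + rsum l := by
  funext k; simp [rsum]

theorem rsum_mem : ∀ {l : List ℕ}, idsOK l = true → rsum l ∈ lat
  | [], _ => by
    have : rsum [] = 0 := funext fun k => rfl
    rw [this]; exact zero_mem _
  | j :: l, h => by
    simp only [idsOK, List.all_cons, Bool.and_eq_true] at h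
    rw [rsum_cons]
    exact add_mem (row_mem ⟨j, Nat.le_of_ble_eq_true h.1⟩) (rsum_mem h.2)

theorem mask_rsum : ∀ {l : List ℕ}, idsOK l = true → mask (rsum l) = rbit l
  | [], _ => by
    have : rsum [] = 0 := funext fun k => rfl
    rw [this]
    refine Nat.eq_of_testBit_eq fun i => ?_
    rw [show rbit [] = 0 from rfl, Nat.zero_testBit]
    by_cases hi : i < 56
    · rw [mask_testBit 0 ⟨i, hi⟩]; simp
    · rw [mask, Nat.testBit_ofBits_ge _ _ (not_lt.1 hi)]
  | j :: l, h => by
    simp only [idsOK, List.all_cons, Bool.and_eq_true] at h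
    rw [rsum_cons, mask_add, mask_rsum h.2, mask_row ⟨j, Nat.le_of_ble_eq_true h.1⟩]
    rfl

theorem rsum_odd {l : List ℕ} (h : idsOK l = true) (k : Fin 56) :
    (rbit l).testBit k.val = decide (rsum l k % 2 = 1) := by
  rw [← mask_rsum h, mask_testBit]

theorem cnt_sum (x : ℕ) :
    ((cnt 56 x : ℕ) : ℤ) = ∑ k : Fin 56, if x.testBit k.val then (1 : ℤ) else 0 := by
  rw [cnt, ← Fin.sum_univ_eq_sum_range (fun i => if x.testBit i then 1 else 0) 56, Nat.cast_sum]
  exact Finset.sum_congr rfl fun k _ => by split <;> simp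

theorem sumS_eq (S : ℕ) : ∀ {l : List ℕ}, idsOK l = true →
    ((sumS S l : ℕ) : ℤ) = ∑ k : Fin 56, if S.testBit k.val then rsum l k else 0
  | [], _ => by
    show ((0 : ℕ) : ℤ) = _
    rw [Nat.cast_zero]
    exact (Finset.sum_eq_zero fun k _ => by simp [rsum]).symm
  | j :: l, h => by
    simp only [idsOK, List.all_cons, Bool.and_eq_true] at h
    show ((pop8 7 (S &&& rowB.getD j 0) + 2 * pop8 7 (S &&& rowH.getD j 0) + sumS S l : ℕ) : ℤ) = _
    rw [pop8_eq, pop8_eq]
    push_cast
    rw [sumS_eq S h.2, cnt_sum, cnt_sum, Finset.mul_sum, ← Finset.sum_add_distrib,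
      ← Finset.sum_add_distrib, rsum_cons]
    refine Finset.sum_congr rfl fun k _ => ?_
    have e : row j k = (ent j k : ℤ) := rfl
    have hb := row_bits ⟨j, Nat.le_of_ble_eq_true h.1⟩ k
    simp only [Pi.add_apply, Nat.testBit_and, e]
    simp only at hb
    rw [hb]
    cases S.testBit k.val <;> cases (rowB.getD j 0).testBit k.val <;>
      cases (rowH.getD j 0).testBit k.val <;> simp

/-! ### Supports -/

/-- Entries `±1` on a mask and zero elsewhere. -/
def Signs (S : ℕ) (x : Vec) : Prop :=
  ∀ k : Fin 56, if S.testBit k.val then x k = 1 ∨ x k = -1 else x k = 0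

theorem signs_dot {S : ℕ} {x : Vec} (hx : Signs S x) {r : Vec}
    (hr : ∀ k : Fin 56, S.testBit k.val = true → r k % 2 = 0) :
    (4 : ℤ) ∣ dot x r - ∑ k : Fin 56, if S.testBit k.val then r k else 0 := by
  rw [dot, ← Finset.sum_sub_distrib]
  refine Finset.dvd_sum fun k _ => ?_
  have h := hx k
  by_cases hb : S.testBit k.val = true
  · rw [if_pos hb] at h ⊢
    have := hr k hb
    rcases h with h | h <;> rw [h]
    · simp
    · omega
  · rw [if_neg hb] at h ⊢
    simp [h]

theorem bad_key {S : ℕ} {x : Vec} (hx : x ∈ lat) (hs : Signs S x) {l : List ℕ}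
    (hl : idsOK l = true) (he : S &&& rbit l = 0) (hn : sumS S l % 4 ≠ 0) : False := by
  have hr : ∀ k : Fin 56, S.testBit k.val = true → rsum l k % 2 = 0 := by
    intro k hk
    have h := congrArg (fun m => m.testBit k.val) he
    simp only [Nat.testBit_and, hk, Bool.true_and, Nat.zero_testBit, rsum_odd hl] at h
    have := of_decide_eq_false h
    omega
  have h1 := signs_dot hs hr
  have h2 := dvd_dot hx (rsum_mem hl)
  rw [← sumS_eq S hl] at h1
  omega

/-- The pivot mask of a list of certificates. -/
def pivMask (P : List ℕ) : ℕ := P.foldr (fun p acc => 1 <<< (p % 64) ||| acc) 0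

/-- The free bits determine the signs. -/
noncomputable def goodOK (S F : ℕ) (P : List ℕ) : Bool :=
  Nat.beq (S &&& F) F && Nat.beq (pivMask P) (S ^^^ F) && P.all fun p =>
    Nat.blt (p % 64) 56 && forceNat (p / 64) fun c => idsOK (ids c) &&
      Nat.beq (rbit (ids c) &&& (S ^^^ F)) (1 <<< (p % 64))

theorem pivMask_bit : ∀ {P : List ℕ} {k : ℕ}, (pivMask P).testBit k = true → ∃ p ∈ P, p % 64 = k
  | [], k, h => by simp [pivMask] at h
  | p :: P, k, h => by
    change (1 <<< (p % 64) ||| pivMask P).testBit k = true at h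
    rw [Nat.testBit_or, Bool.or_eq_true, Nat.one_shiftLeft, Nat.testBit_two_pow,
      decide_eq_true_eq] at h
    rcases h with h | h
    · exact ⟨p, List.mem_cons_self, h⟩
    · obtain ⟨q, hq, e⟩ := pivMask_bit h
      exact ⟨q, List.mem_cons_of_mem _ hq, e⟩

theorem good_key {S F : ℕ} {P : List ℕ} (h : goodOK S F P = true) {x x' : Vec} (hx : x ∈ lat)
    (hx' : x' ∈ lat) (hs : Signs S x) (hs' : Signs S x')
    (he : ∀ k : Fin 56, F.testBit k.val = true → x k = x' k) : x = x' := by
  simp only [goodOK, Bool.and_eq_true, List.all_eq_true, forceNat_eq] at h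
  obtain ⟨⟨hF, hP⟩, hall⟩ := h
  have hP' := Nat.eq_of_beq_eq_true hP
  have hout : ∀ k : Fin 56, (S ^^^ F).testBit k.val = false → x k = x' k := by
    intro k hk
    rw [Nat.testBit_xor] at hk
    by_cases hb : S.testBit k.val = true
    · rw [hb] at hk
      exact he k (by simpa using hk)
    · have h1 := hs k
      have h2 := hs' k
      rw [if_neg hb] at h1 h2
      rw [h1, h2]
  funext k
  by_cases hk : (S ^^^ F).testBit k.val = true
  · obtain ⟨p, hp, hpk⟩ := pivMask_bit (hP'.symm ▸ hk : (pivMask P).testBit k.val = true)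
    obtain ⟨-, hl, hr⟩ := hall p hp
    have hr' := Nat.eq_of_beq_eq_true hr
    rw [hpk] at hr'
    set r := rsum (ids (p / 64)) with hrdef
    have hd : (4 : ℤ) ∣ dot (x - x') r := dvd_dot (sub_mem hx hx') (rsum_mem hl)
    have hterm : (4 : ℤ) ∣ dot (x - x') r - (x k - x' k) * r k := by
      rw [dot, ← Finset.sum_erase_add _ _ (Finset.mem_univ k)]
      simp only [Pi.sub_apply, add_sub_cancel_right]
      refine Finset.dvd_sum fun i hi => ?_
      have hne := Finset.ne_of_mem_erase hi
      by_cases hi' : (S ^^^ F).testBit i.val = true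
      · have hev : r i % 2 = 0 := by
          have h := congrArg (fun m => m.testBit i.val) hr'
          simp only [Nat.testBit_and, hi', Bool.and_true, Nat.one_shiftLeft, Nat.testBit_two_pow,
            rsum_odd hl] at h
          rw [decide_eq_false (p := k.val = i.val) fun e => hne (Fin.ext e.symm)] at h
          have := of_decide_eq_false h
          rw [hrdef]
          omega
        obtain ⟨a, ha⟩ := Int.dvd_of_emod_eq_zero hev
        have h1 := hs i
        have h2 := hs' i
        by_cases hb : S.testBit i.val = true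
        · rw [if_pos hb] at h1 h2
          rcases h1 with h1 | h1 <;> rcases h2 with h2 | h2 <;> rw [h1, h2, ha]
          · simp
          · exact ⟨a, by ring⟩
          · exact ⟨-a, by ring⟩
          · simp
        · rw [if_neg hb] at h1 h2
          simp [h1, h2]
      · rw [hout i (by simpa using hi')]
        simp
    have hodd : r k % 2 = 1 := by
      have h := congrArg (fun m => m.testBit k.val) hr'
      simp only [Nat.testBit_and, hk, Bool.and_true, Nat.one_shiftLeft, Nat.testBit_two_pow,
        rsum_odd hl, decide_true] at h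
      exact of_decide_eq_true h
    obtain ⟨q, hq⟩ := dvd_sub hd hterm
    have h1 := hs k
    have h2 := hs' k
    by_cases hb : S.testBit k.val = true
    · rw [if_pos hb] at h1 h2
      rcases h1 with h1 | h1 <;> rcases h2 with h2 | h2 <;> rw [h1, h2] at hq ⊢ <;> omega
    · rw [if_neg hb] at h1 h2
      rw [h1, h2]
  · exact hout k (by simpa using hk)

/-! ### Weights in the parity code -/

/-- Element number `i` of a span. -/
noncomputable def spanAt (B : List ℕ) : ℕ → ℕ :=
  List.rec (motive := fun _ => ℕ → ℕ) (fun _ => 0)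
    (fun b bs ih i => bif i.testBit bs.length then b ^^^ ih i else ih i) B

theorem spanAt_congr : ∀ {B : List ℕ} {i j : ℕ}, (∀ t < B.length, i.testBit t = j.testBit t) →
    spanAt B i = spanAt B j
  | [], _, _, _ => rfl
  | b :: bs, i, j, h => by
    show (bif i.testBit bs.length then b ^^^ spanAt bs i else spanAt bs i) =
      bif j.testBit bs.length then b ^^^ spanAt bs j else spanAt bs j
    rw [h bs.length (by simp), spanAt_congr (i := i) (j := j) fun t ht => h t (by simp; omega)]

theorem exists_spanAt : ∀ {B : List ℕ} {u : ℕ}, u ∈ span B → ∃ i, i < 2 ^ B.length ∧ spanAt B i = u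
  | [], u, h => by
    rw [span_nil, List.mem_singleton] at h
    exact ⟨0, by simp, h.symm⟩
  | b :: bs, u, h => by
    simp only [span_cons, List.mem_append, List.mem_map] at h
    rcases h with h | ⟨v, h, rfl⟩
    · obtain ⟨i, hi, e⟩ := exists_spanAt h
      refine ⟨i, by simp [pow_succ]; omega, ?_⟩
      show (bif i.testBit bs.length then b ^^^ spanAt bs i else spanAt bs i) = u
      rw [Nat.testBit_lt_two_pow hi]
      exact e
    · obtain ⟨i, hi, e⟩ := exists_spanAt h
      refine ⟨2 ^ bs.length + i, by simp [pow_succ]; omega, ?_⟩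
      show (bif (2 ^ bs.length + i).testBit bs.length then b ^^^ spanAt bs (2 ^ bs.length + i)
        else spanAt bs (2 ^ bs.length + i)) = _
      rw [Nat.testBit_two_pow_add_eq, Nat.testBit_lt_two_pow hi,
        spanAt_congr (i := 2 ^ bs.length + i) (j := i) fun t ht => Nat.testBit_two_pow_add_gt ht i, e]
      rfl

/-- All indices of the second span. -/
def allW : ℕ := 2 ^ 1024 - 1

theorem allW_bit (j : ℕ) : allW.testBit j = decide (j < 1024) := Nat.testBit_two_pow_sub_one ..

theorem planes_ok : ∀ k : Fin 28, planes.getD k.val 0 < 2 ^ 1024 := by decide +kernel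

/-- Whether the plane check holds at an index. -/
noncomputable def planeOK (i : ℕ) : Bool :=
  forceNat (spanAt basisW i) fun w =>
    (List.range 28).all fun k => (planes.getD k 0).testBit i == w.testBit (2 * k)

/-- The indices giving two ones in a pair of coordinates. -/
noncomputable def bothMask (u k : ℕ) : ℕ :=
  bif xor (u.testBit (2 * k)) (u.testBit (2 * k + 1)) then 0
  else bif u.testBit (2 * k) then planes.getD k 0 ^^^ allW else planes.getD k 0

/-- Copies of a mask in nine blocks. -/
noncomputable def rep : ℕ → ℕ → ℕ :=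
  Nat.rec (motive := fun _ => ℕ → ℕ) (fun _ => 0) (fun _ ih m => m ||| (ih m) <<< 1024)

theorem rep_bit : ∀ {n m : ℕ}, m < 2 ^ 1024 → ∀ {j i : ℕ}, j < n → i < 1024 →
    (rep n m).testBit (1024 * j + i) = m.testBit i
  | n + 1, m, hm, j, i, hj, hi => by
    show (m ||| (rep n m) <<< 1024).testBit _ = _
    rw [Nat.testBit_or, Nat.testBit_shiftLeft]
    rcases Nat.eq_zero_or_pos j with rfl | hj0
    · simp [hi]
    · rw [Nat.testBit_lt_two_pow (hm.trans_le (Nat.pow_le_pow_right (by norm_num) (by omega))),
        show 1024 * j + i - 1024 = 1024 * (j - 1) + i by omega, rep_bit hm (by omega) hi,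
        decide_eq_true (show 1024 * j + i ≥ 1024 by omega)]
      simp

/-- Counters for each index: block `j` holds whether more than `j` pairs are full. -/
noncomputable def counters (u : ℕ) : ℕ → ℕ :=
  Nat.rec (motive := fun _ => ℕ) 0
    (fun k ih => forceNat ih fun st => forceNat (bothMask u k) fun m =>
      st ||| (((st <<< 1024) ||| allW) &&& rep 9 m))

/-- The number of full pairs. -/
noncomputable def fullPairs (u i : ℕ) : ℕ → ℕ :=
  Nat.rec (motive := fun _ => ℕ) 0 (fun k ih => ((bothMask u k).testBit i).toNat + ih)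

theorem bothMask_lt (u : ℕ) {k : ℕ} (hk : k < 28) : bothMask u k < 2 ^ 1024 := by
  unfold bothMask
  cases xor (u.testBit (2 * k)) (u.testBit (2 * k + 1))
  · cases u.testBit (2 * k)
    · exact planes_ok ⟨k, hk⟩
    · exact Nat.xor_lt_two_pow (planes_ok ⟨k, hk⟩) (Nat.sub_lt Nat.one_le_two_pow Nat.one_pos)
  · exact Nat.two_pow_pos _

theorem counters_bit (u : ℕ) {i : ℕ} (hi : i < 1024) : ∀ {n : ℕ}, n ≤ 28 → ∀ {j : ℕ}, j < 9 →
    (counters u n).testBit (1024 * j + i) = decide (j < fullPairs u i n)
  | 0, _, j, _ => by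
    show (0 : ℕ).testBit _ = decide (j < 0)
    simp
  | n + 1, hn, j, hj => by
    show (forceNat (counters u n) fun st => forceNat (bothMask u n) fun m =>
      st ||| (((st <<< 1024) ||| allW) &&& rep 9 m)).testBit _ =
      decide (j < ((bothMask u n).testBit i).toNat + fullPairs u i n)
    rw [forceNat_eq, forceNat_eq, Nat.testBit_or, Nat.testBit_and, Nat.testBit_or,
      Nat.testBit_shiftLeft, allW_bit, rep_bit (bothMask_lt u (by omega)) hj hi,
      counters_bit u hi (by omega) hj]
    rcases Nat.eq_zero_or_pos j with rfl | hj0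
    · have hd : decide (1024 * 0 + i < 1024) = true := decide_eq_true (by omega)
      rw [hd]
      cases (bothMask u n).testBit i <;> simp
    · rw [show 1024 * j + i - 1024 = 1024 * (j - 1) + i by omega,
        counters_bit u hi (by omega) (show j - 1 < 9 by omega),
        decide_eq_true (show 1024 * j + i ≥ 1024 by omega),
        decide_eq_false (show ¬ 1024 * j + i < 1024 by omega)]
      cases (bothMask u n).testBit i
      · simp
      · simp only [Bool.true_and, Bool.or_false, Bool.and_true, Bool.toNat_true]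
        rw [Bool.eq_iff_iff]
        simp only [Bool.or_eq_true, decide_eq_true_eq]
        omega

/-- The indices whose word has weight at most 16 with `u`. -/
noncomputable def light (u : ℕ) : ℕ :=
  forceNat (ones 28 (pairCode 28 u)) fun a => bif Nat.blt 16 a then 0
    else allW ^^^ ((counters u 28 >>> (1024 * ((16 - a) / 2))) &&& allW)

theorem weight_ge {u w : ℕ} {i : ℕ} (hi : i < 1024)
    (hplane : ∀ k : Fin 28, (planes.getD k.val 0).testBit i = w.testBit (2 * k.val))
    (hw : ∀ k : Fin 28, w.testBit (2 * k.val + 1) = w.testBit (2 * k.val)) :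
    ∀ n, n ≤ 28 → ones n (pairCode 28 u) + 2 * fullPairs u i n ≤ ones (2 * n) (u ^^^ w)
  | 0, _ => Nat.zero_le _
  | n + 1, hn => by
    have ih := weight_ge (u := u) hi hplane hw n (by omega)
    show ones (n + 1) _ + 2 * (((bothMask u n).testBit i).toNat + fullPairs u i n) ≤
      ones (2 * n + 1 + 1) _
    simp only [ones_succ]
    rw [pairCode_testBit 28 u n (by omega), Nat.testBit_xor, Nat.testBit_xor, hw ⟨n, by omega⟩]
    have hp : (planes.getD n 0).testBit i = w.testBit (2 * n) := hplane ⟨n, by omega⟩
    unfold bothMask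
    cases u.testBit (2 * n) <;> cases u.testBit (2 * n + 1) <;>
      cases hwn : w.testBit (2 * n) <;> simp_all [allW_bit, Nat.testBit_xor] <;> omega

theorem light_bit {u w i : ℕ} (hi : i < 1024)
    (hplane : ∀ k : Fin 28, (planes.getD k.val 0).testBit i = w.testBit (2 * k.val))
    (hw : ∀ k : Fin 28, w.testBit (2 * k.val + 1) = w.testBit (2 * k.val))
    (h16 : ones 56 (u ^^^ w) ≤ 16) : (light u).testBit i = true := by
  have h : ones 28 (pairCode 28 u) + 2 * fullPairs u i 28 ≤ ones 56 (u ^^^ w) :=
    weight_ge hi hplane hw 28 le_rfl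
  have hn : Nat.blt 16 (ones 28 (pairCode 28 u)) = false := by
    rw [← Bool.not_eq_true]
    intro hb
    have := Nat.le_of_ble_eq_true hb
    omega
  rw [light, forceNat_eq, hn, cond_false, Nat.testBit_xor, Nat.testBit_and, Nat.testBit_shiftRight,
    allW_bit, decide_eq_true hi, counters_bit u hi le_rfl (by omega),
    decide_eq_false (by omega)]
  rfl

end Cfsg.Agent.RuMult82.Lattice
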